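import Groth.Agent.BCVertLib.Generic

/-!
# Homology comparison maps for exact functors and for adjunctions
-/

set_option autoImplicit false
set_option backward.isDefEq.respectTransparency false
set_option linter.style.haveILetI false
set_option linter.unusedSectionVars false

universe v₁ v₂ u₁ u₂

open CategoryTheory CategoryTheory.Limits HomologicalComplex

noncomputable section

namespace Groth.Agent.BCVertLib

variable {B : Type u₁} [Category.{v₁} B] [Abelian B] {C : Type u₂} [Category.{v₂} C] [Abelian C]
  {α : Type*} {c : ComplexShape α}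

/-- The comparison of cycles for a left exact functor is an isomorphism. -/
theorem isIso_cyclesComparison (Ψ : B ⥤ C) [Ψ.Additive] [PreservesFiniteLimits Ψ] (K : HomologicalComplex B c)
    (i : α) : IsIso (RDer.cyclesComparison Ψ K i) := by
  let hl := KernelFork.mapIsLimit _ (K.cyclesIsKernel i (c.next i) rfl) Ψ
  let hl' := ((Ψ.mapHomologicalComplex c).obj K).cyclesIsKernel i (c.next i) rfl
  let inv' : Ψ.obj (K.cycles i) ⟶ ((Ψ.mapHomologicalComplex c).obj K).cycles i :=
    ((Ψ.mapHomologicalComplex c).obj K).liftCycles (Ψ.map (K.iCycles i)) (c.next i) rfl (by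
      rw [Functor.mapHomologicalComplex_obj_d, ← Ψ.map_comp, iCycles_d, Ψ.map_zero])
  refine ⟨inv', ?_, ?_⟩
  · rw [← cancel_mono (((Ψ.mapHomologicalComplex c).obj K).iCycles i), Category.assoc, liftCycles_i,
      RDer.cyclesComparison_i, Category.id_comp]
  · refine Fork.IsLimit.hom_ext hl ?_
    rw [KernelFork.map_ι, Fork.ι_ofι, Category.assoc, RDer.cyclesComparison_i, liftCycles_i, Category.id_comp]

/-- The comparison of homology for an exact functor is an isomorphism. -/
theorem isIso_homologyComparison (Ψ : B ⥤ C) [Ψ.Additive] [PreservesFiniteLimits Ψ] [PreservesFiniteColimits Ψ]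
    (K : HomologicalComplex B c) (i : α) : IsIso (RDer.homologyComparison Ψ K i) := by
  haveI := isIso_cyclesComparison Ψ K i
  let hc := CokernelCofork.mapIsColimit _ (K.homologyIsCokernel (c.prev i) i rfl) Ψ
  let hc' := ((Ψ.mapHomologicalComplex c).obj K).homologyIsCokernel (c.prev i) i rfl
  let inv' : Ψ.obj (K.homology i) ⟶ ((Ψ.mapHomologicalComplex c).obj K).homology i :=
    hc.desc (CokernelCofork.ofπ (inv (RDer.cyclesComparison Ψ K i) ≫
      ((Ψ.mapHomologicalComplex c).obj K).homologyπ i) (by
        rw [← RDer.toCycles_cyclesComparison, Category.assoc, IsIso.hom_inv_id_assoc, toCycles_comp_homologyπ]))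
  have hinv : Ψ.map (K.homologyπ i) ≫ inv' = inv (RDer.cyclesComparison Ψ K i) ≫
      ((Ψ.mapHomologicalComplex c).obj K).homologyπ i := hc.fac _ WalkingParallelPair.one
  refine ⟨inv', ?_, ?_⟩
  · rw [← cancel_epi (((Ψ.mapHomologicalComplex c).obj K).homologyπ i),
      RDer.homologyπ_homologyComparison_assoc, hinv, IsIso.hom_inv_id_assoc, Category.comp_id]
  · refine Cofork.IsColimit.hom_ext hc ?_
    show Ψ.map (K.homologyπ i) ≫ inv' ≫ _ = Ψ.map (K.homologyπ i) ≫ 𝟙 _
    rw [reassoc_of% hinv, RDer.homologyπ_homologyComparison, IsIso.inv_hom_id_assoc, Category.comp_id]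

/-- If the transpose of a map of complexes `K ⟶ R M` is an isomorphism, then so is the transpose of the
induced map `H(K) ⟶ R (H M)`. -/
theorem isIso_transpose_homology {L : B ⥤ C} {R : C ⥤ B} (adj : L ⊣ R) [L.Additive] [R.Additive]
    [PreservesFiniteLimits L] [PreservesFiniteColimits L] [PreservesFiniteLimits R]
    {K : CochainComplex B ℕ} {M : CochainComplex C ℕ} (ψ : K ⟶ (R.mapHomologicalComplex (ComplexShape.up ℕ)).obj M)
    (hψ : ∀ n, IsIso ((adj.homEquiv _ _).symm (ψ.f n))) (i : ℕ) {A : B} (a : A ≅ K.homology i)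
    {D : C} (d : M.homology i ≅ D) :
    IsIso ((adj.homEquiv _ _).symm
      (a.hom ≫ homologyMap ψ i ≫ RDer.homologyComparison R M i ≫ R.map d.hom)) := by
  rw [Adjunction.homEquiv_naturality_left_symm, ← Category.assoc (homologyMap ψ i),
    Adjunction.homEquiv_naturality_right_symm, Adjunction.homEquiv_counit]
  haveI : PreservesFiniteLimits (𝟭 C) := inferInstance
  let φ : (L.mapHomologicalComplex (ComplexShape.up ℕ)).obj K ⟶ ((𝟭 C).mapHomologicalComplex (ComplexShape.up ℕ)).obj M :=
    (L.mapHomologicalComplex (ComplexShape.up ℕ)).map ψ ≫ (NatTrans.mapHomologicalComplex adj.counit (ComplexShape.up ℕ)).app M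
  haveI : ∀ n, IsIso (φ.f n) := fun n => by
    have : φ.f n = (adj.homEquiv _ _).symm (ψ.f n) := (adj.homEquiv_counit _ _ _).symm
    rw [this]
    exact hψ n
  haveI : IsIso φ := HomologicalComplex.Hom.isIso_of_components φ
  haveI := isIso_homologyComparison L K i
  haveI := isIso_homologyComparison (𝟭 C) M i
  have key : RDer.homologyComparison L K i ≫
      L.map (homologyMap ψ i ≫ RDer.homologyComparison R M i) ≫ adj.counit.app (M.homology i) =
      homologyMap φ i ≫ RDer.homologyComparison (𝟭 C) M i := by
    rw [L.map_comp, Category.assoc,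
      ← reassoc_of% (GenBCLib.homologyComparison_naturality L ψ i),
      homologyComparison_comp R L (𝟭 C) adj.counit M i, homologyMap_comp, Category.assoc]
  haveI : IsIso (L.map (homologyMap ψ i ≫ RDer.homologyComparison R M i) ≫ adj.counit.app (M.homology i)) := by
    have : L.map (homologyMap ψ i ≫ RDer.homologyComparison R M i) ≫ adj.counit.app (M.homology i) =
        inv (RDer.homologyComparison L K i) ≫ homologyMap φ i ≫ RDer.homologyComparison (𝟭 C) M i := by
      rw [← key, IsIso.inv_hom_id_assoc]
    rw [this]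
    infer_instance
  infer_instance

end Groth.Agent.BCVertLib
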