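import Groth.Agent.BCVertLib.Square
import Groth.Agent.BCVertLib.ExactComparison
import Groth.Agent.EtPtsLib.ShriekBC
import Groth.Agent.EtJCont.Basic
import Groth.Agent.S0648

/-!
# Base change along étale morphisms
-/

set_option autoImplicit false
set_option backward.isDefEq.respectTransparency false
set_option backward.isDefEq.respectTransparency.types false
set_option linter.style.haveILetI false
set_option linter.unusedSectionVars false
set_option maxHeartbeats 1000000

universe u

open CategoryTheory CategoryTheory.Limits AlgebraicGeometry Opposite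
open Groth.Agent.EtLimLib Groth.Agent.GenBCLib Groth.Agent.EtPtsLib

noncomputable section

namespace Groth.Agent.BCVertLib

variable {X S X' S' : Scheme.{u}} (f : X ⟶ S) (g : S' ⟶ S) (f' : X' ⟶ S') (g' : X' ⟶ X)

/-- The isomorphism of a square, as restriction along explicit morphisms of étale schemes. -/
theorem sqNat_eq (w : g' ≫ f = f' ≫ g) (L : EtCoh.Ab X') :
    (sqNat f g f' g' w).hom.app L =
      pushJoin f g' (f' ≫ g) w L ≫ (pushSp g f' (f' ≫ g) rfl).app L := by
  rw [← sqNat_comp f g f' g' w L, Category.assoc, pushJoin_pushSp]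
  exact (Category.comp_id _).symm

/-- The map underlying étale base change. -/
def etaleBCMor [Etale g] [Etale g'] [EtShriek.JCont g] [EtShriek.JCont g'] (w : g' ≫ f = f' ≫ g) (F : EtCoh.Ab X) :
    (EtShriek.restrAlong g).obj ((EtCoh.push f).obj F) ⟶ (EtCoh.push f').obj ((EtShriek.restrAlong g').obj F) :=
  ((restrPushAdj g).homEquiv _ _).symm
    ((EtCoh.push f).map ((restrPushAdj g').unit.app F) ≫
      (sqNat f g f' g' w).hom.app ((EtShriek.restrAlong g').obj F))

theorem baseChange0_eq_etaleBCMor [Etale g] [Etale g'] [EtShriek.JCont g] [EtShriek.JCont g']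
    (w : g' ≫ f = f' ≫ g) (F : EtCoh.Ab X) :
    EtCoh.baseChange0 f g f' g' w F ≫ (EtCoh.push f').map ((pullIsoRestr g').hom.app F) =
      (pullIsoRestr g).hom.app ((EtCoh.push f).obj F) ≫ etaleBCMor f g f' g' w F := by
  apply ((EtCoh.pullPushAdj g).homEquiv _ _).injective
  refine Eq.trans ?_ ((homEquiv_leftAdjointUniq_comp (EtCoh.pullPushAdj g) (restrPushAdj g)
    (etaleBCMor f g f' g' w F)).trans (Equiv.apply_symm_apply _ _)).symm
  rw [Adjunction.homEquiv_naturality_right, EtCoh.baseChange0, Equiv.apply_symm_apply]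
  have e : (EtCoh.pullPushAdj g').unit.app F ≫ (EtCoh.push g').map ((pullIsoRestr g').hom.app F) =
      (restrPushAdj g').unit.app F :=
    Adjunction.unit_leftAdjointUniq_hom_app (EtCoh.pullPushAdj g') (restrPushAdj g') F
  rw [← e, Functor.map_comp]
  refine (Category.assoc _ _ _).trans (Eq.trans ?_ (Category.assoc _ _ _).symm)
  refine congrArg (fun m => (EtCoh.push f).map ((EtCoh.pullPushAdj g').unit.app F) ≫ m) ?_
  exact ((sqNat f g f' g' w).hom.naturality ((pullIsoRestr g').hom.app F)).symm

theorem etaleBCMor_app [Etale g] [Etale g'] [EtShriek.JCont g] [EtShriek.JCont g']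
    (w : g' ≫ f = f' ≫ g) (F : EtCoh.Ab X) (W : S'.Etale) :
    (etaleBCMor f g f' g' w F).hom.app (op W) =
      F.obj.map (((EtShriek.compEtale g').map ((EtCoh.bc f').map ((compBcAdj g).unit.app W) ≫
        bcSp g f' (f' ≫ g) rfl ((EtShriek.compEtale g).obj W) ≫
        bcSpInv f g' (f' ≫ g) w ((EtShriek.compEtale g).obj W)) ≫
        (compBcAdj g').counit.app ((EtCoh.bc f).obj ((EtShriek.compEtale g).obj W))).op) := by
  rw [etaleBCMor, Adjunction.homEquiv_counit, sqNat_eq]
  simp only [op_comp, Functor.map_comp, Category.assoc]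
  rfl

theorem etaleBCMor_hom_eq [Etale g] [Etale g'] [EtShriek.JCont g] [EtShriek.JCont g']
    (h : IsPullback g' f' f g) (W : S'.Etale) :
    (EtShriek.compEtale g').map ((EtCoh.bc f').map ((compBcAdj g).unit.app W) ≫
        bcSp g f' (f' ≫ g) rfl ((EtShriek.compEtale g).obj W) ≫
        bcSpInv f g' (f' ≫ g) h.w ((EtShriek.compEtale g).obj W)) ≫
        (compBcAdj g').counit.app ((EtCoh.bc f).obj ((EtShriek.compEtale g).obj W)) =
      (compBcApp g f g' f' h W).inv := by
  let V := (EtShriek.compEtale g).obj W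
  refine bc_hom_ext f ?_
  have e1 : ((compBcAdj g').counit.app ((EtCoh.bc f).obj V)).left = bcFst g' ((EtCoh.bc f).obj V) :=
    Category.id_comp _
  have e2 : (bcSpInv f g' (f' ≫ g) h.w V).left ≫ bcFst g' ((EtCoh.bc f).obj V) ≫ bcFst f V =
      pullback.fst V.hom (f' ≫ g) :=
    (Category.assoc _ _ _).symm.trans
      ((congrArg (· ≫ bcFst f V) (bcSpInv_fst f g' (f' ≫ g) h.w V)).trans (pullback.lift_fst _ _ _))
  have e3 : (bcSp g f' (f' ≫ g) rfl V).left ≫ pullback.fst V.hom (f' ≫ g) =
      bcFst f' ((EtCoh.bc g).obj V) ≫ bcFst g V :=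
    bcSp_fst g f' (f' ≫ g) rfl V
  have e4 : ((EtCoh.bc f').map ((compBcAdj g).unit.app W)).left ≫ bcFst f' ((EtCoh.bc g).obj V) =
      bcFst f' W ≫ ((compBcAdj g).unit.app W).left := bcFst_map f' _
  have e5 : ((compBcAdj g).unit.app W).left ≫ bcFst g V = 𝟙 _ := pullback.lift_fst _ _ _
  refine Eq.trans ?_ (pullback.lift_fst _ _ _).symm
  calc ((((EtCoh.bc f').map ((compBcAdj g).unit.app W)).left ≫ (bcSp g f' (f' ≫ g) rfl V).left ≫
        (bcSpInv f g' (f' ≫ g) h.w V).left) ≫ ((compBcAdj g').counit.app ((EtCoh.bc f).obj V)).left) ≫ bcFst f V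
      = ((EtCoh.bc f').map ((compBcAdj g).unit.app W)).left ≫ (bcSp g f' (f' ≫ g) rfl V).left ≫
          (bcSpInv f g' (f' ≫ g) h.w V).left ≫ bcFst g' ((EtCoh.bc f).obj V) ≫ bcFst f V := by
        rw [e1]
        exact (Category.assoc _ _ _).trans ((Category.assoc _ _ _).trans (congrArg _ (Category.assoc _ _ _)))
    _ = bcFst f' W ≫ ((compBcAdj g).unit.app W).left ≫ bcFst g V := by
        rw [e2, e3, reassoc_of% e4]
    _ = bcFst f' W := by
        rw [e5]
        exact Category.comp_id _

/-- Base change in degree zero along an étale morphism. -/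
theorem isIso_baseChange0_etale [Etale g] (h : IsPullback g' f' f g) (F : EtCoh.Ab X) :
    IsIso (EtCoh.baseChange0 f g f' g' h.w F) := by
  haveI : Etale g' := MorphismProperty.of_isPullback (P := @Etale) h.flip ‹_›
  haveI : EtShriek.JCont g := EtJCont.jCont g
  haveI : EtShriek.JCont g' := EtJCont.jCont g'
  haveI : IsIso (etaleBCMor f g f' g' h.w F) := by
    haveI : ∀ W, IsIso ((etaleBCMor f g f' g' h.w F).hom.app W) := by
      rintro ⟨W⟩
      rw [etaleBCMor_app, etaleBCMor_hom_eq f g f' g' h W]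
      infer_instance
    haveI : IsIso (etaleBCMor f g f' g' h.w F).hom := NatIso.isIso_of_isIso_app _
    haveI : IsIso ((sheafToPresheaf _ _).map (etaleBCMor f g f' g' h.w F)) :=
      ‹IsIso (etaleBCMor f g f' g' h.w F).hom›
    exact isIso_of_fully_faithful (sheafToPresheaf _ _) _
  have h1 := baseChange0_eq_etaleBCMor f g f' g' h.w F
  haveI : IsIso (EtCoh.baseChange0 f g f' g' h.w F ≫ (EtCoh.push f').map ((pullIsoRestr g').hom.app F)) := by
    rw [h1]
    infer_instance
  exact IsIso.of_isIso_comp_right _ ((EtCoh.push f').map ((pullIsoRestr g').hom.app F))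

/-- Inverse image along an étale morphism preserves injective sheaves. -/
theorem injective_pull_etale {U Y : Scheme.{u}} (j : U ⟶ Y) [Etale j] (I : EtCoh.Ab Y) [Injective I] :
    Injective ((EtCoh.pull j).obj I) := by
  haveI : EtShriek.JCont j := EtJCont.jCont j
  haveI : PreservesFiniteLimits (EtShriek.extZero j) := S0648.result j
  haveI : Injective ((EtShriek.restrAlong j).obj I) :=
    Injective.injective_of_adjoint (EtShriek.extZeroAdj j) I
  exact Injective.of_iso ((pullIsoRestr j).app I).symm inferInstance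

end Groth.Agent.BCVertLib
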