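import Groth.Agent.BCVertLib.EtaleBC

/-!
# Higher direct images commute with étale localization on the base
-/

set_option autoImplicit false
set_option backward.isDefEq.respectTransparency false
set_option backward.isDefEq.respectTransparency.types false
set_option linter.style.haveILetI false
set_option linter.unusedSectionVars false
set_option maxHeartbeats 1000000

universe u

open CategoryTheory CategoryTheory.Limits AlgebraicGeometry Opposite
open Groth.Agent.GenBCLib

noncomputable section

namespace Groth.Agent.BCVertLib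

variable {X S X' S' : Scheme.{u}} (f : X ⟶ S) (g : S' ⟶ S) (f' : X' ⟶ S') (g' : X' ⟶ X)

/-- If inverse image along `g'` preserves injectives and base change holds in degree zero for injective sheaves,
then it holds in every degree. -/
theorem isIso_bcQ_of_injective (w : g' ≫ f = f' ≫ g) [PreservesFiniteLimits (EtCoh.pull g')]
    [PreservesFiniteLimits (EtCoh.pull g)]
    (hinj : ∀ I : EtCoh.Ab X, Injective I → Injective ((EtCoh.pull g').obj I))
    (h0 : ∀ I : EtCoh.Ab X, Injective I → IsIso (EtCoh.baseChange0 f g f' g' w I))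
    (q : ℕ) (F : EtCoh.Ab X) : IsIso (EtBC.bcQ f g f' g' w q F) := by
  haveI : PreservesColimitsOfSize.{0, 0} (EtCoh.pull g') := (EtCoh.pullPushAdj g').leftAdjoint_preservesColimits
  haveI : PreservesFiniteColimits (EtCoh.pull g') := PreservesColimitsOfSize.preservesFiniteColimits _
  haveI : PreservesColimitsOfSize.{0, 0} (EtCoh.pull g) := (EtCoh.pullPushAdj g).leftAdjoint_preservesColimits
  haveI : PreservesFiniteColimits (EtCoh.pull g) := PreservesColimitsOfSize.preservesFiniteColimits _
  haveI : (EtCoh.pull g').PreservesHomology := inferInstance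
  let I := injectiveResolution F
  haveI : QuasiIso (RDer.mapAug (EtCoh.pull g') I.ι) := inferInstance
  let J : InjectiveResolution ((EtCoh.pull g').obj F) :=
    { cocomplex := ((EtCoh.pull g').mapHomologicalComplex _).obj I.cocomplex
      injective := fun n => hinj _ inferInstance
      ι := RDer.mapAug (EtCoh.pull g') I.ι }
  let adj' := EtCoh.pullPushAdj g'
  let a : I.cocomplex ⟶ ((EtCoh.push g').mapHomologicalComplex (ComplexShape.up ℕ)).obj J.cocomplex :=
    { f := fun n => adj'.unit.app (I.cocomplex.X n)
      comm' := fun i j _ => (adj'.unit.naturality (I.cocomplex.d i j)).symm }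
  have ha : I.ι.f 0 ≫ a.f 0 = adj'.unit.app F ≫ (RDer.mapAug (EtCoh.push g') J.ι).f 0 := by
    rw [mapAug_f_zero]
    show I.ι.f 0 ≫ adj'.unit.app (I.cocomplex.X 0) =
      adj'.unit.app F ≫ (EtCoh.push g').map ((RDer.mapAug (EtCoh.pull g') I.ι).f 0)
    rw [mapAug_f_zero]
    exact adj'.unit.naturality (I.ι.f 0)
  let ψ := ((EtCoh.push f).mapHomologicalComplex _).map a ≫
    sqMap (EtCoh.push g') (EtCoh.push f) (EtCoh.push f') (EtCoh.push g) (sqNat f g f' g' w) J.cocomplex
  have hψ : ∀ n, IsIso (((EtCoh.pullPushAdj g).homEquiv _ _).symm (ψ.f n)) := fun n =>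
    h0 (I.cocomplex.X n) inferInstance
  have hkey : EtBC.bcQAdj f g f' g' w q F =
      (I.isoRightDerivedObj (EtCoh.push f) q).hom ≫ HomologicalComplex.homologyMap ψ q ≫
        RDer.homologyComparison (EtCoh.push g) (((EtCoh.push f').mapHomologicalComplex _).obj J.cocomplex) q ≫
        (EtCoh.push g).map (J.isoRightDerivedObj (EtCoh.push f') q).symm.hom := by
    rw [bcQAdj_eq, bcG_eq (EtCoh.push g') (EtCoh.push f) (EtCoh.push f') (EtCoh.push g) (sqNat f g f' g' w)
      _ q I J a ha]
    simp only [ψ, HomologicalComplex.homologyMap_comp, Category.assoc, Iso.symm_hom]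
  rw [EtBC.bcQ, hkey]
  exact isIso_transpose_homology (EtCoh.pullPushAdj g) ψ hψ q (I.isoRightDerivedObj (EtCoh.push f) q)
    (J.isoRightDerivedObj (EtCoh.push f') q).symm

/-- Base change in every degree along an étale morphism. -/
theorem isIso_bcQ_etale [Etale g] [PreservesFiniteLimits (EtCoh.pull g')] [PreservesFiniteLimits (EtCoh.pull g)]
    (h : IsPullback g' f' f g) (q : ℕ) (F : EtCoh.Ab X) : IsIso (EtBC.bcQ f g f' g' h.w q F) := by
  haveI : Etale g' := MorphismProperty.of_isPullback (P := @Etale) h.flip ‹_›
  exact isIso_bcQ_of_injective f g f' g' h.w (fun I _ => injective_pull_etale g' I)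
    (fun I _ => isIso_baseChange0_etale f g f' g' h I) q F

end Groth.Agent.BCVertLib
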