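import Groth.Agent.FLCLib.Efface
import Groth.Agent.RDerLib.Horseshoe
import Groth.Prelude.Def_EtBC2

/-!
# A sheaf killed by `n` embeds into one killed by `n` which is acyclic for direct images
-/

set_option autoImplicit false
set_option backward.isDefEq.respectTransparency false
set_option backward.isDefEq.respectTransparency.types false
set_option linter.style.haveILetI false

universe u

open CategoryTheory CategoryTheory.Limits AlgebraicGeometry Opposite

noncomputable section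

namespace Groth.Agent.BCVertLib

theorem epi_push_nsmul {T S : Scheme.{u}} (g : T ⟶ S) (I : EtCoh.Ab T) [Injective I] {n : ℕ} (hn : 0 < n) :
    Epi ((EtCoh.push g).map (n • 𝟙 I)) := by
  refine (EtPtsLib.epi_iff_ab ((EtCoh.push g).map (n • 𝟙 I))).2 fun Ω _ _ ξ b => ?_
  obtain ⟨U, l, s, rfl⟩ := (Scheme.pointSmallEtale ξ).toPresheafFiber_jointly_surjective b
  obtain ⟨t, ht⟩ := FLCLib.exists_nsmul_eq_sect hn ((EtCoh.bc g).obj U) s
  refine ⟨EtPtsLib.germ ξ ((EtCoh.push g).obj I) l t, ?_⟩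
  rw [FLCLib.germ_app]
  exact congrArg (EtPtsLib.germ ξ ((EtCoh.push g).obj I) l) ht

theorem isZero_Rpush_kernel_nsmul {T S : Scheme.{u}} (g : T ⟶ S) (I : EtCoh.Ab T) [Injective I] {n : ℕ}
    (hn : 0 < n) (q : ℕ) : IsZero ((EtCoh.Rpush g (q + 1)).obj (kernel (n • 𝟙 I : I ⟶ I))) := by
  haveI := epi_push_nsmul g I hn
  haveI : Epi (n • 𝟙 I : I ⟶ I) := (EtPtsLib.epi_iff_ab (n • 𝟙 I : I ⟶ I)).2 fun Ω _ _ ξ b => by
    obtain ⟨U, l, s, rfl⟩ := (Scheme.pointSmallEtale ξ).toPresheafFiber_jointly_surjective b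
    obtain ⟨t, ht⟩ := FLCLib.exists_nsmul_eq_sect hn U s
    refine ⟨EtPtsLib.germ ξ I l t, ?_⟩
    rw [FLCLib.germ_app]
    exact congrArg (EtPtsLib.germ ξ I l) ht
  let S₀ := ShortComplex.mk (kernel.ι (n • 𝟙 I : I ⟶ I)) (n • 𝟙 I) (kernel.condition _)
  have hS : S₀.ShortExact := ⟨ShortComplex.exact_of_f_is_kernel _ (kernelIsKernel _)⟩
  obtain ⟨Δ⟩ := RDerLib.nonempty_derivedLES (EtCoh.push g)
  have hI : IsZero ((EtCoh.Rpush g (q + 1)).obj I) :=
    Functor.isZero_rightDerived_obj_injective_succ (EtCoh.push g) q I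
  have hepi : Epi (Δ.δ S₀ hS q (q + 1) rfl) :=
    (Δ.exact₁ S₀ hS q (q + 1) rfl).epi_f (hI.eq_of_tgt _ _)
  have hg : Epi ((EtCoh.Rpush g q).map (n • 𝟙 I : I ⟶ I)) := by
    cases q with
    | zero =>
      have hn := (EtCoh.push g).toRightDerivedZero.naturality (n • 𝟙 I : I ⟶ I)
      haveI : IsIso ((EtCoh.push g).toRightDerivedZero.app I) := inferInstance
      haveI : Epi ((EtCoh.push g).toRightDerivedZero.app I ≫ ((EtCoh.push g).rightDerived 0).map (n • 𝟙 I)) := by
        rw [← hn]; exact epi_comp _ _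
      exact epi_of_epi ((EtCoh.push g).toRightDerivedZero.app I) _
    | succ k => exact ⟨fun a b _ => (Functor.isZero_rightDerived_obj_injective_succ (EtCoh.push g) k I).eq_of_src a b⟩
  have h0 : Δ.δ S₀ hS q (q + 1) rfl = 0 := by
    rw [← cancel_epi ((EtCoh.Rpush g q).map (n • 𝟙 I : I ⟶ I)), comp_zero]
    exact Δ.comp_δ S₀ hS q (q + 1) rfl
  exact IsZero.of_epi_eq_zero _ h0

/-- A sheaf killed by `n` is a subsheaf of one killed by `n` whose positive higher direct images along `g` vanish. -/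
theorem exists_killed_acyclic {T S : Scheme.{u}} (g : T ⟶ S) {n : ℕ} {F : EtCoh.Ab T} (hF : EtCoh.KilledBy n F) :
    ∃ (K : EtCoh.Ab T) (u : F ⟶ K), Mono u ∧ EtCoh.KilledBy n K ∧
      ∀ q : ℕ, IsZero ((EtCoh.Rpush g (q + 1)).obj K) := by
  rcases Nat.eq_zero_or_pos n with rfl | hn
  · exact ⟨Injective.under F, Injective.ι F, inferInstance, (FLCLib.killedBy_iff 0 _).2 (zero_smul _ _),
      fun q => Functor.isZero_rightDerived_obj_injective_succ (EtCoh.push g) q _⟩
  let m : Injective.under F ⟶ Injective.under F := n • 𝟙 _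
  have hFm : Injective.ι F ≫ m = 0 := by
    rw [Preadditive.comp_nsmul, Category.comp_id, ← Category.id_comp (Injective.ι F), ← Preadditive.nsmul_comp,
      (FLCLib.killedBy_iff n F).1 hF, zero_comp]
  refine ⟨kernel m, kernel.lift m (Injective.ι F) hFm, mono_of_mono_fac (kernel.lift_ι m (Injective.ι F) hFm), ?_,
    fun q => isZero_Rpush_kernel_nsmul g _ hn q⟩
  rw [FLCLib.killedBy_iff, ← cancel_mono (kernel.ι m), zero_comp, Preadditive.nsmul_comp, Category.id_comp,
    ← Category.comp_id (kernel.ι m), ← Preadditive.comp_nsmul]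
  exact kernel.condition m

/-- A quotient of a sheaf killed by `n` is killed by `n`. -/
theorem killedBy_of_epi {T : Scheme.{u}} {n : ℕ} {F G : EtCoh.Ab T} (p : F ⟶ G) [Epi p] (hF : EtCoh.KilledBy n F) :
    EtCoh.KilledBy n G := by
  rw [FLCLib.killedBy_iff, ← cancel_epi p, comp_zero, Preadditive.comp_nsmul, Category.comp_id,
    ← Category.id_comp p, ← Preadditive.nsmul_comp, (FLCLib.killedBy_iff n F).1 hF, zero_comp]

end Groth.Agent.BCVertLib
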