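import Groth.Agent.BCVertLib.Generic
import Groth.Agent.EtLimLib.Bridge
import Groth.Prelude.Def_EtBC2

/-!
# The base change morphism in degree `q` of two stacked squares of schemes
-/

set_option autoImplicit false
set_option backward.isDefEq.respectTransparency false
set_option backward.isDefEq.respectTransparency.types false
set_option linter.style.haveILetI false
set_option linter.unusedSectionVars false
set_option maxHeartbeats 1000000

universe u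

open CategoryTheory CategoryTheory.Limits AlgebraicGeometry Opposite
open Groth.Agent.EtLimLib Groth.Agent.GenBCLib

noncomputable section

namespace Groth.Agent.BCVertLib

/-- The comparison morphisms of iterated base changes are associative. -/
theorem bcSpInv_assoc {A B C D : Scheme.{u}} (a : B ⟶ A) (b : C ⟶ B) (c : D ⟶ C) (n₁ : C ⟶ A) (w₁ : b ≫ a = n₁)
    (n₂ : D ⟶ B) (w₂ : c ≫ b = n₂) (m : D ⟶ A) (w₃ : n₂ ≫ a = m) (w₄ : c ≫ n₁ = m) (W : A.Etale) :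
    bcSpInv a n₂ m w₃ W ≫ bcSpInv b c n₂ w₂ ((EtCoh.bc a).obj W) =
      bcSpInv n₁ c m w₄ W ≫ (EtCoh.bc c).map (bcSpInv a b n₁ w₁ W) := by
  refine bc_ext _ ?_
  let Wa := (EtCoh.bc a).obj W
  have hX : (bcSpInv a n₂ m w₃ W ≫ bcSpInv b c n₂ w₂ Wa).left ≫ pullback.fst ((EtCoh.bc b).obj Wa).hom c =
      (bcSpInv a n₂ m w₃ W).left ≫ pullback.lift (pullback.fst Wa.hom n₂) (pullback.snd Wa.hom n₂ ≫ c)
        (by rw [Category.assoc, w₂]; exact pullback.condition) :=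
    (Category.assoc _ _ _).trans (congrArg ((bcSpInv a n₂ m w₃ W).left ≫ ·) (bcSpInv_fst b c n₂ w₂ Wa))
  have hY : (bcSpInv n₁ c m w₄ W ≫ (EtCoh.bc c).map (bcSpInv a b n₁ w₁ W)).left ≫
        pullback.fst ((EtCoh.bc b).obj Wa).hom c =
      pullback.lift (pullback.fst W.hom m) (pullback.snd W.hom m ≫ c)
        (by rw [Category.assoc, w₄]; exact pullback.condition) ≫ (bcSpInv a b n₁ w₁ W).left := by
    refine (Category.assoc _ _ _).trans ((congrArg ((bcSpInv n₁ c m w₄ W).left ≫ ·) (pullback.lift_fst _ _ _)).trans ?_)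
    exact (Category.assoc _ _ _).symm.trans (congrArg (· ≫ (bcSpInv a b n₁ w₁ W).left) (bcSpInv_fst n₁ c m w₄ W))
  refine hX.trans (Eq.trans ?_ hY.symm)
  refine pullback.hom_ext (pullback.hom_ext ?_ ?_) ?_
  · simp only [Category.assoc]
    erw [pullback.lift_fst_assoc, reassoc_of% (bcSpInv_fst a n₂ m w₃ W), pullback.lift_fst,
      reassoc_of% (bcSpInv_fst a b n₁ w₁ W), pullback.lift_fst, pullback.lift_fst]
  · simp only [Category.assoc]
    erw [pullback.lift_fst_assoc, reassoc_of% (bcSpInv_fst a n₂ m w₃ W), pullback.lift_snd,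
      reassoc_of% (bcSpInv_fst a b n₁ w₁ W), pullback.lift_snd, pullback.lift_snd_assoc]
    rw [Category.assoc, w₂]
  · have e1 : (bcSpInv a n₂ m w₃ W).left ≫ pullback.snd Wa.hom n₂ = pullback.snd W.hom m :=
      MorphismProperty.Over.w (bcSpInv a n₂ m w₃ W)
    have e2 : (bcSpInv a b n₁ w₁ W).left ≫ pullback.snd Wa.hom b = pullback.snd W.hom n₁ :=
      MorphismProperty.Over.w (bcSpInv a b n₁ w₁ W)
    erw [Category.assoc, pullback.lift_snd, reassoc_of% e1, Category.assoc, e2, pullback.lift_snd]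

/-- The joining maps of direct images are associative. -/
theorem pushJoin_assoc {A B C D : Scheme.{u}} (a : B ⟶ A) (b : C ⟶ B) (c : D ⟶ C) (n₁ : C ⟶ A) (w₁ : b ≫ a = n₁)
    (n₂ : D ⟶ B) (w₂ : c ≫ b = n₂) (m : D ⟶ A) (w₃ : n₂ ≫ a = m) (w₄ : c ≫ n₁ = m) (L : EtCoh.Ab D) :
    (EtCoh.push a).map (pushJoin b c n₂ w₂ L) ≫ pushJoin a n₂ m w₃ L =
      pushJoin a b n₁ w₁ ((EtCoh.push c).obj L) ≫ pushJoin n₁ c m w₄ L := by
  refine ObjectProperty.hom_ext _ (NatTrans.ext (funext fun W => ?_))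
  obtain ⟨W⟩ := W
  show L.obj.map (bcSpInv b c n₂ w₂ ((EtCoh.bc a).obj W)).op ≫ L.obj.map (bcSpInv a n₂ m w₃ W).op =
    L.obj.map ((EtCoh.bc c).map (bcSpInv a b n₁ w₁ W)).op ≫ L.obj.map (bcSpInv n₁ c m w₄ W).op
  rw [← Functor.map_comp, ← Functor.map_comp, ← op_comp, ← op_comp, bcSpInv_assoc a b c n₁ w₁ n₂ w₂ m w₃ w₄ W]

theorem homEquiv_leftAdjointUniq_comp {C D : Type*} [Category* C] [Category* D] {F F' : C ⥤ D} {G : D ⥤ C}
    (adj : F ⊣ G) (adj' : F' ⊣ G) {A : C} {B : D} (p : F'.obj A ⟶ B) :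
    adj.homEquiv A B ((adj.leftAdjointUniq adj').hom.app A ≫ p) = adj'.homEquiv A B p := by
  rw [Adjunction.homEquiv_naturality_right, Adjunction.homEquiv_leftAdjointUniq_hom_app, Adjunction.homEquiv_unit]

/-- The isomorphism of functors attached to a square. -/
abbrev sqNat {X S X' S' : Scheme.{u}} (f : X ⟶ S) (g : S' ⟶ S) (f' : X' ⟶ S') (g' : X' ⟶ X)
    (w : g' ≫ f = f' ≫ g) : EtCoh.push g' ⋙ EtCoh.push f ≅ EtCoh.push f' ⋙ EtCoh.push g :=
  EtCoh.pushComp f g' ≪≫ EtCoh.pushCongr w ≪≫ (EtCoh.pushComp g f').symm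

theorem bcQAdj_eq {X S X' S' : Scheme.{u}} (f : X ⟶ S) (g : S' ⟶ S) (f' : X' ⟶ S') (g' : X' ⟶ X)
    (w : g' ≫ f = f' ≫ g) (q : ℕ) [PreservesFiniteLimits (EtCoh.pull g')] (F : EtCoh.Ab X) :
    EtBC.bcQAdj f g f' g' w q F = bcG (EtCoh.push g') (EtCoh.push f) (EtCoh.push f') (EtCoh.push g)
      (sqNat f g f' g' w) ((EtCoh.pullPushAdj g').unit.app F) q := rfl

theorem sqNat_comp {X S X' S' : Scheme.{u}} (f : X ⟶ S) (g : S' ⟶ S) (f' : X' ⟶ S') (g' : X' ⟶ X)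
    (w : g' ≫ f = f' ≫ g) (L : EtCoh.Ab X') :
    (sqNat f g f' g' w).hom.app L ≫ pushJoin g f' (f' ≫ g) rfl L = pushJoin f g' (f' ≫ g) w L := by
  rw [← pushComp_congr_eq f g' (f' ≫ g) w, ← pushComp_hom_eq]
  simp [sqNat]

variable {X S Y T W Z : Scheme.{u}} (f : X ⟶ S) (g : T ⟶ S) (h : Y ⟶ X) (e : Y ⟶ T) (w₁ : e ≫ g = h ≫ f)
  (i : W ⟶ X) (j : Z ⟶ W) (k : Z ⟶ Y) (w₂ : k ≫ h = j ≫ i) (w : (k ≫ e) ≫ g = j ≫ i ≫ f)

theorem sqNat_vcomp (L : EtCoh.Ab Z) :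
    (EtCoh.push g).map ((EtCoh.pushComp e k).hom.app L) ≫ (sqNat g (i ≫ f) j (k ≫ e) w).hom.app L =
      (sqNat g f h e w₁).hom.app ((EtCoh.push k).obj L) ≫
        (EtCoh.push f).map ((sqNat h i j k w₂).hom.app L) ≫
        (EtCoh.pushComp f i).hom.app ((EtCoh.push j).obj L) := by
  haveI : Mono (pushJoin (i ≫ f) j (j ≫ i ≫ f) rfl L) :=
    mono_of_mono_fac (pushJoin_pushSp (i ≫ f) j (j ≫ i ≫ f) rfl L)
  rw [← cancel_mono (pushJoin (i ≫ f) j (j ≫ i ≫ f) rfl L)]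
  simp only [Category.assoc]
  rw [pushComp_hom_eq, pushComp_hom_eq, sqNat_comp g (i ≫ f) j (k ≫ e) w L]
  rw [← pushJoin_assoc f i j (i ≫ f) rfl (j ≫ i) rfl (j ≫ i ≫ f) (Category.assoc _ _ _) rfl L,
    ← Functor.map_comp_assoc, sqNat_comp h i j k w₂ L,
    pushJoin_assoc f h k (h ≫ f) rfl (j ≫ i) w₂ (j ≫ i ≫ f) (Category.assoc _ _ _)
      (by rw [← Category.assoc, w₂, Category.assoc]) L,
    reassoc_of% (sqNat_comp g f h e w₁ ((EtCoh.push k).obj L))]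
  exact pushJoin_assoc g e k (h ≫ f) w₁ (k ≫ e) rfl (j ≫ i ≫ f) w _ L

/-- The base change morphism of the composite rectangle is the composite of the two base change morphisms. -/
theorem exists_bcQ_vcomp [PreservesFiniteLimits (EtCoh.pull e)] [PreservesFiniteLimits (EtCoh.pull k)]
    [PreservesFiniteLimits (EtCoh.pull (k ≫ e))] (F : EtCoh.Ab T) (q : ℕ) :
    ∃ (τ : (EtCoh.pull (i ≫ f)).obj ((EtCoh.Rpush g q).obj F) ≅
        (EtCoh.pull i).obj ((EtCoh.pull f).obj ((EtCoh.Rpush g q).obj F)))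
      (σ : (EtCoh.pull (k ≫ e)).obj F ≅ (EtCoh.pull k).obj ((EtCoh.pull e).obj F)),
      EtBC.bcQ g (i ≫ f) j (k ≫ e) w q F ≫ (EtCoh.Rpush j q).map σ.hom =
        τ.hom ≫ (EtCoh.pull i).map (EtBC.bcQ g f h e w₁ q F) ≫
          EtBC.bcQ h i j k w₂ q ((EtCoh.pull e).obj F) := by
  let G := (EtCoh.pull e).obj F
  let adjL := ((EtCoh.pullPushAdj e).comp (EtCoh.pullPushAdj k)).ofNatIsoRight (EtCoh.pushComp e k)
  let σ : (EtCoh.pull (k ≫ e)).obj F ≅ (EtCoh.pull k).obj G :=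
    ((EtCoh.pullPushAdj (k ≫ e)).leftAdjointUniq adjL).app F
  have hu : (EtCoh.pullPushAdj (k ≫ e)).unit.app F ≫ (EtCoh.push (k ≫ e)).map σ.hom =
      (EtCoh.pullPushAdj e).unit.app F ≫ (EtCoh.push e).map ((EtCoh.pullPushAdj k).unit.app G) ≫
        (EtCoh.pushComp e k).hom.app _ := by
    refine (Adjunction.unit_leftAdjointUniq_hom_app (EtCoh.pullPushAdj (k ≫ e)) adjL F).trans ?_
    simp only [adjL, Adjunction.ofNatIsoRight, Adjunction.mkOfHomEquiv, Adjunction.comp]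
    simp [G]
  have hA : EtBC.bcQAdj g (i ≫ f) j (k ≫ e) w q F ≫ (EtCoh.push (i ≫ f)).map ((EtCoh.Rpush j q).map σ.hom) =
      EtBC.bcQAdj g f h e w₁ q F ≫ (EtCoh.push f).map (EtBC.bcQAdj h i j k w₂ q G) ≫
        (EtCoh.pushComp f i).hom.app ((EtCoh.Rpush j q).obj ((EtCoh.pull k).obj G)) := by
    rw [bcQAdj_eq, bcQAdj_eq, bcQAdj_eq]
    refine (bcG_natural (EtCoh.push (k ≫ e)) (EtCoh.push g) (EtCoh.push j) (EtCoh.push (i ≫ f))
      (sqNat g (i ≫ f) j (k ≫ e) w) _ σ.hom q).symm.trans ?_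
    rw [hu]
    exact (bcG_vcomp (EtCoh.push e) (EtCoh.push g) (EtCoh.push h) (EtCoh.push f) (sqNat g f h e w₁)
      (EtCoh.push k) (EtCoh.push j) (EtCoh.push i) (sqNat h i j k w₂) (EtCoh.push (k ≫ e)) (EtCoh.push (i ≫ f))
      (sqNat g (i ≫ f) j (k ≫ e) w) (EtCoh.pushComp e k).hom (EtCoh.pushComp f i).hom
      (fun L => sqNat_vcomp f g h e w₁ i j k w₂ w L) _ _ q).symm
  let adjP := ((EtCoh.pullPushAdj f).comp (EtCoh.pullPushAdj i)).ofNatIsoRight (EtCoh.pushComp f i)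
  let τ := ((EtCoh.pullPushAdj (i ≫ f)).leftAdjointUniq adjP).app ((EtCoh.Rpush g q).obj F)
  let p : (EtCoh.pull i).obj ((EtCoh.pull f).obj ((EtCoh.Rpush g q).obj F)) ⟶
      (EtCoh.Rpush j q).obj ((EtCoh.pull k).obj G) :=
    (EtCoh.pull i).map (EtBC.bcQ g f h e w₁ q F) ≫ EtBC.bcQ h i j k w₂ q G
  have hkey : EtBC.bcQ g (i ≫ f) j (k ≫ e) w q F ≫ (EtCoh.Rpush j q).map σ.hom = τ.hom ≫ p := by
    apply ((EtCoh.pullPushAdj (i ≫ f)).homEquiv _ _).injective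
    refine ((Adjunction.homEquiv_naturality_right _ _ _).trans ?_).trans
      (homEquiv_leftAdjointUniq_comp (EtCoh.pullPushAdj (i ≫ f)) adjP p).symm
    rw [EtBC.bcQ, Equiv.apply_symm_apply, hA]
    refine Eq.trans ?_ (Adjunction.homEquiv_ofNatIsoRight_apply _ _ _).symm
    rw [Adjunction.comp_homEquiv]
    simp only [p, EtBC.bcQ]
    refine ((congrArg (· ≫ _) ?_).trans (Category.assoc _ _ _)).symm
    rw [Equiv.trans]
    show (EtCoh.pullPushAdj f).homEquiv _ _ ((EtCoh.pullPushAdj i).homEquiv _ _ _) = _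
    erw [Adjunction.homEquiv_naturality_left, Equiv.apply_symm_apply, Adjunction.homEquiv_naturality_right,
      Equiv.apply_symm_apply]
  exact ⟨τ, σ, hkey⟩

/-- The base change morphism of the composite rectangle is an isomorphism when both squares' are. -/
theorem isIso_bcQ_vcomp [PreservesFiniteLimits (EtCoh.pull e)] [PreservesFiniteLimits (EtCoh.pull k)]
    [PreservesFiniteLimits (EtCoh.pull (k ≫ e))] (F : EtCoh.Ab T) (q : ℕ)
    (h1 : IsIso (EtBC.bcQ g f h e w₁ q F)) (h2 : IsIso (EtBC.bcQ h i j k w₂ q ((EtCoh.pull e).obj F))) :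
    IsIso (EtBC.bcQ g (i ≫ f) j (k ≫ e) w q F) := by
  obtain ⟨τ, σ, hkey⟩ := exists_bcQ_vcomp f g h e w₁ i j k w₂ w F q
  haveI := h1
  haveI := h2
  have : EtBC.bcQ g (i ≫ f) j (k ≫ e) w q F = (τ.hom ≫ (EtCoh.pull i).map (EtBC.bcQ g f h e w₁ q F) ≫
      EtBC.bcQ h i j k w₂ q ((EtCoh.pull e).obj F)) ≫ inv ((EtCoh.Rpush j q).map σ.hom) := by
    rw [← hkey, Category.assoc, IsIso.hom_inv_id, Category.comp_id]
  rw [this]
  infer_instance

/-- If the composite and the second base change morphisms are isomorphisms, so is the pulled back first one. -/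
theorem isIso_pull_bcQ_of_vcomp [PreservesFiniteLimits (EtCoh.pull e)] [PreservesFiniteLimits (EtCoh.pull k)]
    [PreservesFiniteLimits (EtCoh.pull (k ≫ e))] (F : EtCoh.Ab T) (q : ℕ)
    (h12 : IsIso (EtBC.bcQ g (i ≫ f) j (k ≫ e) w q F))
    (h2 : IsIso (EtBC.bcQ h i j k w₂ q ((EtCoh.pull e).obj F))) :
    IsIso ((EtCoh.pull i).map (EtBC.bcQ g f h e w₁ q F)) := by
  obtain ⟨τ, σ, hkey⟩ := exists_bcQ_vcomp f g h e w₁ i j k w₂ w F q
  haveI := h12
  haveI := h2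
  have : (EtCoh.pull i).map (EtBC.bcQ g f h e w₁ q F) = τ.inv ≫
      (EtBC.bcQ g (i ≫ f) j (k ≫ e) w q F ≫ (EtCoh.Rpush j q).map σ.hom) ≫
        inv (EtBC.bcQ h i j k w₂ q ((EtCoh.pull e).obj F)) := by
    simp [hkey]
  rw [this]
  infer_instance

end Groth.Agent.BCVertLib
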