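import Groth.Agent.BCVertLib.Square
import Groth.Agent.BCVertLib.ExactComparison

/-!
# Horizontal composition of base change maps
-/

set_option autoImplicit false
set_option backward.isDefEq.respectTransparency false
set_option backward.isDefEq.respectTransparency.types false
set_option linter.style.haveILetI false
set_option linter.unusedSectionVars false
set_option maxHeartbeats 1000000

universe v₁ v₂ v₃ v₄ v₅ v₆ u₁ u₂ u₃ u₄ u₅ u₆ u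

open CategoryTheory CategoryTheory.Limits HomologicalComplex Groth.Agent.GenBCLib

noncomputable section

namespace Groth.Agent.BCVertLib

section Edge

variable {A : Type u₁} [Category.{v₁} A] [Abelian A] [HasInjectiveResolutions A]
  {C : Type u₂} [Category.{v₂} C] [Abelian C] {D : Type u₃} [Category.{v₃} D] [Abelian D]

/-- The edge map out of the derived functors of a composite `Ψo ≅ Ψ ⋙ Ψ₂` is an isomorphism if `Ψ₂` is exact. -/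
theorem isIso_bcG_id (Ψo : A ⥤ D) [Ψo.Additive] (Ψ : A ⥤ C) [Ψ.Additive] (Ψ₂ : C ⥤ D) [Ψ₂.Additive]
    [PreservesFiniteLimits Ψ₂] [PreservesFiniteColimits Ψ₂] [(𝟭 A).PreservesInjectiveObjects]
    (ν : 𝟭 A ⋙ Ψo ≅ Ψ ⋙ Ψ₂) (F : A) (q : ℕ) :
    IsIso (bcG (𝟭 A) Ψo Ψ Ψ₂ ν (𝟙 F) q) := by
  let I := injectiveResolution F
  let a : I.cocomplex ⟶ ((𝟭 A).mapHomologicalComplex (ComplexShape.up ℕ)).obj I.cocomplex :=
    { f := fun n => 𝟙 (I.cocomplex.X n)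
      comm' := fun i j _ => (Category.id_comp _).trans (Category.comp_id _).symm }
  have ha : I.ι.f 0 ≫ a.f 0 = 𝟙 F ≫ (RDer.mapAug (𝟭 A) I.ι).f 0 := by
    rw [mapAug_f_zero]
    exact (Category.comp_id _).trans (Category.id_comp _).symm
  rw [bcG_eq (𝟭 A) Ψo Ψ Ψ₂ ν (𝟙 F) q I I a ha]
  haveI : ∀ n, IsIso (a.f n) := fun n => inferInstanceAs (IsIso (𝟙 (I.cocomplex.X n)))
  haveI : IsIso a := HomologicalComplex.Hom.isIso_of_components a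
  haveI : ∀ n, IsIso ((sqMap (𝟭 A) Ψo Ψ Ψ₂ ν I.cocomplex).f n) := fun n =>
    inferInstanceAs (IsIso (ν.hom.app (I.cocomplex.X n)))
  haveI : IsIso (sqMap (𝟭 A) Ψo Ψ Ψ₂ ν I.cocomplex) := HomologicalComplex.Hom.isIso_of_components _
  haveI := isIso_homologyComparison Ψ₂ ((Ψ.mapHomologicalComplex _).obj I.cocomplex) q
  infer_instance

end Edge

section Horizontal

variable {A : Type u₁} [Category.{v₁} A] [Abelian A] [HasInjectiveResolutions A]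
  {A' : Type u₂} [Category.{v₂} A'] [Abelian A'] [HasInjectiveResolutions A']
  {C : Type u₃} [Category.{v₃} C] [Abelian C] {C' : Type u₄} [Category.{v₄} C'] [Abelian C']
  {D : Type u₅} [Category.{v₅} D] [Abelian D] {D' : Type u₆} [Category.{v₆} D'] [Abelian D']
  [(𝟭 A).PreservesInjectiveObjects] [(𝟭 A').PreservesInjectiveObjects]
  (Φ : A' ⥤ A) [Φ.Additive] [Φ.PreservesInjectiveObjects] (Ψ : A ⥤ C) [Ψ.Additive]
  (Φ' : A' ⥤ C') [Φ'.Additive] (Ψ' : C' ⥤ C) [Ψ'.Additive] [PreservesFiniteLimits Ψ']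
  (e₁ : Φ ⋙ Ψ ≅ Φ' ⋙ Ψ')
  (Ψ₂ : C ⥤ D) [Ψ₂.Additive] [PreservesFiniteLimits Ψ₂] (Φ₂' : C' ⥤ D') [Φ₂'.Additive]
  [PreservesFiniteLimits Φ₂'] (Ψ₂' : D' ⥤ D) [Ψ₂'.Additive] [PreservesFiniteLimits Ψ₂']
  (e₂ : Ψ' ⋙ Ψ₂ ≅ Φ₂' ⋙ Ψ₂')
  (Ψo : A ⥤ D) [Ψo.Additive] (Φo' : A' ⥤ D') [Φo'.Additive]
  (ν : 𝟭 A ⋙ Ψo ≅ Ψ ⋙ Ψ₂) (ν' : 𝟭 A' ⋙ Φo' ≅ Φ' ⋙ Φ₂') (eo : Φ ⋙ Ψo ≅ Φo' ⋙ Ψ₂')

/-- Two squares side by side: the base change map of the outer rectangle is, along the edge maps, the composite of the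
base change maps of the two squares. -/
theorem bcG_hcomp (hcoh : ∀ L : A', eo.hom.app L ≫ Ψ₂'.map (ν'.hom.app L) =
      ν.hom.app (Φ.obj L) ≫ Ψ₂.map (e₁.hom.app L) ≫ e₂.hom.app (Φ'.obj L))
    {F : A} {G : A'} (u : F ⟶ Φ.obj G) (q : ℕ) :
    bcG Φ Ψo Φo' Ψ₂' eo u q ≫ Ψ₂'.map (bcG (𝟭 A') Φo' Φ' Φ₂' ν' (𝟙 G) q) =
      bcG (𝟭 A) Ψo Ψ Ψ₂ ν (𝟙 F) q ≫ Ψ₂.map (bcG Φ Ψ Φ' Ψ' e₁ u q) ≫ e₂.hom.app _ := by
  let e : Φ ⋙ Ψo ≅ Φ' ⋙ (Φ₂' ⋙ Ψ₂') :=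
    NatIso.ofComponents (fun L => eo.app L ≪≫ Ψ₂'.mapIso (ν'.app L)) (by
      intro L M s
      have h1 := eo.hom.naturality s
      have h2 := ν'.hom.naturality s
      simp only [Functor.comp_map, Functor.id_map] at h1 h2
      dsimp
      rw [reassoc_of% h1, Category.assoc, ← Ψ₂'.map_comp, ← Ψ₂'.map_comp, h2])
  have h₁ := bcG_vcomp Φ Ψo Φo' Ψ₂' eo (𝟭 A') Φ' Φ₂' ν' Φ (Φ₂' ⋙ Ψ₂') e
    (Functor.leftUnitor Φ).hom (𝟙 (Φ₂' ⋙ Ψ₂')) (fun L => by simp [e]) u (𝟙 G) q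
  have h₂ := bcG_vcomp (𝟭 A) Ψo Ψ Ψ₂ ν Φ Φ' Ψ' e₁ Φ (Φ₂' ⋙ Ψ₂') e
    (Functor.rightUnitor Φ).hom e₂.hom (fun L => by
      simpa [e] using hcoh L) (𝟙 F) u q
  simp only [Functor.leftUnitor_hom_app, Functor.rightUnitor_hom_app, NatTrans.id_app, Functor.id_map,
    Category.comp_id, Category.id_comp, CategoryTheory.Functor.map_id, Functor.id_obj, Functor.comp_obj] at h₁ h₂
  exact h₁.trans h₂.symm

end Horizontal

section Scheme

open AlgebraicGeometry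

theorem pushCongr_inv {X Y : Scheme.{u}} {f g : X ⟶ Y} (h : f = g) :
    (EtCoh.pushCongr h).inv = (EtCoh.pushCongr h.symm).hom := by
  subst h
  ext L W z
  simp [EtCoh.pushCongr, MorphismProperty.Over.pullbackCongr]
  refine congrArg (fun m : (EtCoh.bc f).obj W.unop ⟶ (EtCoh.bc f).obj W.unop => L.obj.map m.op z) ?_
  apply MorphismProperty.Over.Hom.ext
  apply pullback.hom_ext <;> simp

theorem sqNat_inv {X S X' S' : Scheme.{u}} (f : X ⟶ S) (g : S' ⟶ S) (f' : X' ⟶ S') (g' : X' ⟶ X)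
    (w : g' ≫ f = f' ≫ g) : (sqNat f g f' g' w).inv = (sqNat g f g' f' w.symm).hom := by
  simp [sqNat, pushCongr_inv]

variable {T S S' Y X X' : Scheme.{u}} (g' : T ⟶ S') (π : S' ⟶ S) (f : X ⟶ S) (f' : X' ⟶ S') (π' : X' ⟶ X)
  (h' : Y ⟶ X') (e : Y ⟶ T) (w : e ≫ g' = h' ≫ f') (w₂ : f' ≫ π = π' ≫ f)
  (w' : e ≫ g' ≫ π = (h' ≫ π') ≫ f)

theorem sqNat_hcomp (L : EtCoh.Ab Y) :
    (sqNat (g' ≫ π) f (h' ≫ π') e w').hom.app L ≫
        (EtCoh.push f).map ((EtCoh.pushComp π' h').inv.app L) =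
      (EtCoh.pushComp π g').inv.app ((EtCoh.push e).obj L) ≫
        (EtCoh.push π).map ((sqNat g' f' h' e w).hom.app L) ≫
        (sqNat π f π' f' w₂).hom.app ((EtCoh.push h').obj L) := by
  have hv := sqNat_vcomp π f f' π' w₂.symm g' e h' w.symm w'.symm L
  let a := ((sqNat f (g' ≫ π) e (h' ≫ π') w'.symm).app L)
  let b := (EtCoh.push f).mapIso ((EtCoh.pushComp π' h').app L)
  let c := (sqNat f π f' π' w₂.symm).app ((EtCoh.push h').obj L)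
  let d := (EtCoh.push π).mapIso ((sqNat f' g' e h' w.symm).app L)
  let k := (EtCoh.pushComp π g').app ((EtCoh.push e).obj L)
  have hI : b ≪≫ a = c ≪≫ d ≪≫ k := Iso.ext hv
  have hI' := congrArg Iso.inv hI
  refine Eq.trans ?_ ((hI'.trans (Category.assoc _ _ _)).trans ?_)
  · refine congrArg (· ≫ _) ?_
    exact (congrArg (fun n : EtCoh.push e ⋙ EtCoh.push (g' ≫ π) ⟶ EtCoh.push (h' ≫ π') ⋙ EtCoh.push f => n.app L)
      (sqNat_inv f (g' ≫ π) e (h' ≫ π') w'.symm)).symm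
  · refine congrArg₂ (fun x y => (EtCoh.pushComp π g').inv.app ((EtCoh.push e).obj L) ≫ (EtCoh.push π).map x ≫ y) ?_ ?_
    · exact congrArg (fun n : EtCoh.push e ⋙ EtCoh.push g' ⟶ EtCoh.push h' ⋙ EtCoh.push f' => n.app L)
        (sqNat_inv f' g' e h' w.symm)
    · exact congrArg (fun n : EtCoh.push f' ⋙ EtCoh.push π ⟶ EtCoh.push π' ⋙ EtCoh.push f => n.app _)
        (sqNat_inv f π f' π' w₂.symm)

end Scheme

end Groth.Agent.BCVertLib
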