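import Groth.Agent.BCVertLib.EtaleBCQ
import Groth.Agent.FLCLib.Ops
import Groth.Agent.FLCLib.Filtration
import Groth.Agent.EtPtsLib.Support

/-!
# The base change morphism in degree `q` is étale-local
-/

set_option autoImplicit false
set_option backward.isDefEq.respectTransparency false
set_option backward.isDefEq.respectTransparency.types false
set_option linter.style.haveILetI false
set_option linter.unusedSectionVars false
set_option maxHeartbeats 1000000

universe u

open CategoryTheory CategoryTheory.Limits AlgebraicGeometry Opposite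
open Groth.Agent.FLCLib Groth.Agent.EtPtsLib

noncomputable section

namespace Groth.Agent.BCVertLib

/-- A morphism of sheaves which becomes an isomorphism on the members of a covering is an isomorphism. -/
theorem isIso_of_covers {X : Scheme.{u}} {ι : Type u} (U : ι → X.Etale) (hU : EtCoh.Covers U) {F G : EtCoh.Ab X}
    (a : F ⟶ G) (h : ∀ i, IsIso ((EtCoh.pull (U i).hom).map a)) : IsIso a := by
  refine FLCLib.isIso_of_stalk a fun Ω _ _ ξ => ?_
  obtain ⟨i, y, hy⟩ := hU (ξ default)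
  obtain ⟨l, -⟩ := Scheme.pointSmallEtaleFiberObjToPreimage_surjective ξ (s₀ := ξ default) rfl (U i) ⟨y, hy⟩
  let ζ := liftHom ξ l
  haveI := h i
  have hst : IsIso ((EtCoh.stalk (ζ ≫ (U i).hom)).map a) :=
    (NatIso.isIso_map_iff (FLCLib.stalkPullIso (U i).hom ζ) a).1
      (inferInstanceAs (IsIso ((EtCoh.stalk ζ).map ((EtCoh.pull (U i).hom).map a))))
  have hξ : ζ ≫ (U i).hom = ξ := liftHom_comp ξ l
  rwa [hξ] at hst

/-- The base change morphism depends only on the morphisms. -/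
theorem isIso_bcQ_congr {X S Y T : Scheme.{u}} (g : T ⟶ S) {f f' : X ⟶ S} (hf : f = f') (h : Y ⟶ X)
    {e e' : Y ⟶ T} (he : e = e') (w : e ≫ g = h ≫ f) (w' : e' ≫ g = h ≫ f') (q : ℕ) (F : EtCoh.Ab T)
    (hi : IsIso (EtBC.bcQ g f h e w q F)) : IsIso (EtBC.bcQ g f' h e' w' q F) := by
  subst hf he
  exact hi

/-- Base change in degree `q` may be checked on an étale covering, along étale charts of the base. -/
theorem isIso_bcQ_of_local {X S Y T : Scheme.{u}} (f : X ⟶ S) (g : T ⟶ S) (h : Y ⟶ X) (e : Y ⟶ T)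
    (c : IsPullback e h g f) (F : EtCoh.Ab T) (q : ℕ)
    {ι : Type u} (U : ι → X.Etale) (hU : EtCoh.Covers U) (V : ι → S.Etale)
    (a : ∀ i, (U i).left ⟶ (V i).left) (ha : ∀ i, a i ≫ (V i).hom = (U i).hom ≫ f)
    (Ti Yi : ι → Scheme.{u}) (gi : ∀ i, Ti i ⟶ (V i).left) (ti : ∀ i, Ti i ⟶ T)
    (cT : ∀ i, IsPullback (ti i) (gi i) g (V i).hom)
    (hi : ∀ i, Yi i ⟶ (U i).left) (ei : ∀ i, Yi i ⟶ Ti i) (cY : ∀ i, IsPullback (ei i) (hi i) (gi i) (a i))
    (hloc : ∀ i, IsIso (EtBC.bcQ (gi i) (a i) (hi i) (ei i) (cY i).w q ((EtCoh.pull (ti i)).obj F))) :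
    IsIso (EtBC.bcQ g f h e c.w q F) := by
  refine isIso_of_covers U hU _ fun i => ?_
  haveI : Etale (V i).hom := (V i).prop
  haveI : Etale (U i).hom := (U i).prop
  have houter : IsPullback (ei i ≫ ti i) (hi i) g (a i ≫ (V i).hom) := (cY i).paste_horiz (cT i)
  let k : Yi i ⟶ Y := c.lift (ei i ≫ ti i) (hi i ≫ (U i).hom)
    (by rw [houter.w, Category.assoc, ha i])
  have hke : k ≫ e = ei i ≫ ti i := c.lift_fst _ _ _
  have hkh : k ≫ h = hi i ≫ (U i).hom := c.lift_snd _ _ _
  have hk : IsPullback k (hi i) h (U i).hom := by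
    refine IsPullback.of_right (t := c) ?_ hkh
    rw [hke, ← ha i]
    exact houter
  have h2 := isIso_bcQ_etale h (U i).hom (hi i) k hk q ((EtCoh.pull e).obj F)
  have hA := isIso_bcQ_vcomp (V i).hom g (gi i) (ti i) (cT i).w (a i) (hi i) (ei i) (cY i).w houter.w F q
    (isIso_bcQ_etale g (V i).hom (gi i) (ti i) (cT i) q F) (hloc i)
  exact isIso_pull_bcQ_of_vcomp f g h e c.w (U i).hom (hi i) k hk.w
    (by rw [hke, houter.w, ha i]) F q (isIso_bcQ_congr g (ha i) (hi i) hke.symm _ _ q F hA) h2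

end Groth.Agent.BCVertLib
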