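import Groth.Agent.BCVertLib.Square
import Groth.Agent.RDerLib.Horseshoe

/-!
# The base change maps and the connecting morphisms
-/

set_option autoImplicit false
set_option backward.isDefEq.respectTransparency false
set_option backward.isDefEq.respectTransparency.types false
set_option linter.style.haveILetI false
set_option linter.unusedSectionVars false
set_option maxHeartbeats 1000000

universe u

open CategoryTheory CategoryTheory.Limits AlgebraicGeometry Opposite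
open Groth.Agent.GenBCLib

noncomputable section

namespace Groth.Agent.BCVertLib

variable {X S X' S' : Scheme.{u}} (f : X ⟶ S) (g : S' ⟶ S) (f' : X' ⟶ S') (g' : X' ⟶ X) (w : g' ≫ f = f' ≫ g)
  [PreservesFiniteLimits (EtCoh.pull g')]

theorem bcQAdj_natural {F G : EtCoh.Ab X} (s : F ⟶ G) (q : ℕ) :
    (EtCoh.Rpush f q).map s ≫ EtBC.bcQAdj f g f' g' w q G =
      EtBC.bcQAdj f g f' g' w q F ≫ (EtCoh.push g).map ((EtCoh.Rpush f' q).map ((EtCoh.pull g').map s)) := by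
  rw [bcQAdj_eq, bcQAdj_eq]
  refine Eq.trans ?_ (bcG_natural (EtCoh.push g') (EtCoh.push f) (EtCoh.push f') (EtCoh.push g)
    (sqNat f g f' g' w) ((EtCoh.pullPushAdj g').unit.app F) ((EtCoh.pull g').map s) q)
  have hn := (EtCoh.pullPushAdj g').unit.naturality s
  simp only [Functor.id_map, Functor.comp_map] at hn
  erw [← hn]
  simp only [bcG, Functor.map_comp, Category.assoc]

theorem bcQ_natural {F G : EtCoh.Ab X} (s : F ⟶ G) (q : ℕ) :
    (EtCoh.pull g).map ((EtCoh.Rpush f q).map s) ≫ EtBC.bcQ f g f' g' w q G =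
      EtBC.bcQ f g f' g' w q F ≫ (EtCoh.Rpush f' q).map ((EtCoh.pull g').map s) := by
  rw [EtBC.bcQ, EtBC.bcQ, ← Adjunction.homEquiv_naturality_left_symm,
    ← Adjunction.homEquiv_naturality_right_symm, bcQAdj_natural]

theorem bcQ_δ (Δ : RDer.DerivedLES (EtCoh.push f)) (Δ' : RDer.DerivedLES (EtCoh.push f'))
    {S₀ : ShortComplex (EtCoh.Ab X)} (hS : S₀.ShortExact) (hS' : (S₀.map (EtCoh.pull g')).ShortExact) (q : ℕ) :
    (EtCoh.pull g).map (Δ.δ S₀ hS q (q + 1) rfl) ≫ EtBC.bcQ f g f' g' w (q + 1) S₀.X₁ =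
      EtBC.bcQ f g f' g' w q S₀.X₃ ≫ Δ'.δ (S₀.map (EtCoh.pull g')) hS' q (q + 1) rfl := by
  rw [EtBC.bcQ, EtBC.bcQ, ← Adjunction.homEquiv_naturality_left_symm,
    ← Adjunction.homEquiv_naturality_right_symm]
  refine congrArg _ ?_
  rw [bcQAdj_eq, bcQAdj_eq]
  let v : S₀ ⟶ (S₀.map (EtCoh.pull g')).map (EtCoh.push g') :=
    S₀.mapNatTrans (F := 𝟭 _) (G := EtCoh.pull g' ⋙ EtCoh.push g') (EtCoh.pullPushAdj g').unit
  exact (bcG_δ (EtCoh.push g') (EtCoh.push f) (EtCoh.push f') (EtCoh.push g) (sqNat f g f' g' w) Δ Δ' hS hS'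
    v q).symm

/-- Base change in degree `q + 1` at the first term of a short exact sequence `0 ⟶ F ⟶ T ⟶ C ⟶ 0` with `T`
acyclic in degree `q + 1`: it is a monomorphism with image the kernel of the map to the middle term. -/
theorem mono_exact_of_acyclic {S₀ : ShortComplex (EtCoh.Ab X)} (hS : S₀.ShortExact) (q : ℕ)
    [PreservesFiniteLimits (EtCoh.pull g)]
    (hT : IsZero ((EtCoh.Rpush f (q + 1)).obj S₀.X₂))
    (h₂ : IsIso (EtBC.bcQ f g f' g' w q S₀.X₂)) (h₃ : IsIso (EtBC.bcQ f g f' g' w q S₀.X₃)) :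
    ∃ hz : EtBC.bcQ f g f' g' w (q + 1) S₀.X₁ ≫ (EtCoh.Rpush f' (q + 1)).map ((EtCoh.pull g').map S₀.f) = 0,
      Mono (EtBC.bcQ f g f' g' w (q + 1) S₀.X₁) ∧ (ShortComplex.mk _ _ hz).Exact := by
  haveI := h₂
  haveI := h₃
  haveI : PreservesColimitsOfSize.{0, 0} (EtCoh.pull g') := (EtCoh.pullPushAdj g').leftAdjoint_preservesColimits
  haveI : PreservesFiniteColimits (EtCoh.pull g') := PreservesColimitsOfSize.preservesFiniteColimits _
  haveI : PreservesColimitsOfSize.{0, 0} (EtCoh.pull g) := (EtCoh.pullPushAdj g).leftAdjoint_preservesColimits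
  haveI : PreservesFiniteColimits (EtCoh.pull g) := PreservesColimitsOfSize.preservesFiniteColimits _
  have hS' : (S₀.map (EtCoh.pull g')).ShortExact := hS.map_of_exact (EtCoh.pull g')
  obtain ⟨Δ⟩ := RDerLib.nonempty_derivedLES (EtCoh.push f)
  obtain ⟨Δ'⟩ := RDerLib.nonempty_derivedLES (EtCoh.push f')
  let δ := (EtCoh.pull g).map (Δ.δ S₀ hS q (q + 1) rfl)
  let bc := EtBC.bcQ f g f' g' w (q + 1) S₀.X₁
  let δ' := Δ'.δ (S₀.map (EtCoh.pull g')) hS' q (q + 1) rfl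
  have hδ : δ ≫ bc = EtBC.bcQ f g f' g' w q S₀.X₃ ≫ δ' := bcQ_δ f g f' g' w Δ Δ' hS hS' q
  have h0 : (EtCoh.Rpush f (q + 1)).map S₀.f = 0 := hT.eq_of_tgt _ _
  haveI : Epi δ := by
    haveI : Epi (Δ.δ S₀ hS q (q + 1) rfl) := (Δ.exact₁ S₀ hS q (q + 1) rfl).epi_f h0
    exact inferInstanceAs (Epi ((EtCoh.pull g).map _))
  have hz : bc ≫ (EtCoh.Rpush f' (q + 1)).map ((EtCoh.pull g').map S₀.f) = 0 := by
    rw [← bcQ_natural, h0, Functor.map_zero, zero_comp]
  -- the square with the kernel of `δ`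
  have hcomm : (EtCoh.Rpush f' q).map ((EtCoh.pull g').map S₀.g) ≫ inv (EtBC.bcQ f g f' g' w q S₀.X₃) ≫ δ = 0 := by
    have hn := bcQ_natural f g f' g' w S₀.g q
    rw [← cancel_epi (EtBC.bcQ f g f' g' w q S₀.X₂), ← Category.assoc, ← hn, comp_zero]
    simp only [Category.assoc, IsIso.hom_inv_id_assoc, δ]
    rw [← Functor.map_comp, Δ.comp_δ S₀ hS q (q + 1) rfl, Functor.map_zero]
  refine ⟨hz, ⟨fun {Z} a b hab => ?_⟩, ?_⟩
  · -- descend along the epimorphism `δ`, using exactness of the lower row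
    rw [← sub_eq_zero] at hab ⊢
    rw [← Preadditive.sub_comp] at hab
    obtain ⟨A, π, hπ, y, hy⟩ := surjective_up_to_refinements_of_epi δ (a - b)
    have h1 : (y ≫ EtBC.bcQ f g f' g' w q S₀.X₃) ≫ δ' = 0 := by
      rw [Category.assoc, ← hδ, ← Category.assoc, ← hy, Category.assoc]
      erw [hab]
      rw [comp_zero]
    obtain ⟨A', π', hπ', z, hz'⟩ := (Δ'.exact₃ (S₀.map (EtCoh.pull g')) hS' q (q + 1) rfl).exact_up_to_refinements _ h1
    rw [← cancel_epi π, comp_zero, hy, ← cancel_epi π', comp_zero]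
    have h2 : π' ≫ y = z ≫ (EtCoh.Rpush f' q).map ((EtCoh.pull g').map S₀.g) ≫
        inv (EtBC.bcQ f g f' g' w q S₀.X₃) := by
      rw [← Category.assoc, IsIso.eq_comp_inv, Category.assoc]
      exact hz'
    rw [reassoc_of% h2, hcomm, comp_zero]
  · rw [ShortComplex.exact_iff_exact_up_to_refinements]
    intro A x hx
    obtain ⟨A', π, hπ, z, hz'⟩ := (Δ'.exact₁ (S₀.map (EtCoh.pull g')) hS' q (q + 1) rfl).exact_up_to_refinements x hx
    refine ⟨A', π, hπ, z ≫ inv (EtBC.bcQ f g f' g' w q S₀.X₃) ≫ δ, ?_⟩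
    dsimp only [ShortComplex.mk]
    rw [Category.assoc, Category.assoc, hδ, IsIso.inv_hom_id_assoc]
    exact hz'

end Groth.Agent.BCVertLib
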