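import Groth.Agent.GenBCLib.EdgeGen

/-!
# Composition of the base change maps of two squares of functors stacked on each other
-/

set_option autoImplicit false
set_option backward.isDefEq.respectTransparency false
set_option linter.style.haveILetI false
set_option linter.unusedSectionVars false

universe v₁ v₂ v₃ v₄ v₅ v₆ u₁ u₂ u₃ u₄ u₅ u₆

open CategoryTheory CategoryTheory.Limits HomologicalComplex Groth.Agent.GenBCLib

noncomputable section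

namespace Groth.Agent.BCVertLib

section Comparison

variable {B : Type u₁} [Category.{v₁} B] [Abelian B] {C : Type u₂} [Category.{v₂} C] [Abelian C]
  {D : Type u₃} [Category.{v₃} D] [Abelian D] {α : Type*} {c : ComplexShape α}
  (Ψ₂ : B ⥤ C) [Ψ₂.Additive] [PreservesFiniteLimits Ψ₂]
  (Ψ₁ : C ⥤ D) [Ψ₁.Additive] [PreservesFiniteLimits Ψ₁]
  (Ψ : B ⥤ D) [Ψ.Additive] [PreservesFiniteLimits Ψ] (ε : Ψ₂ ⋙ Ψ₁ ⟶ Ψ)

/-- The comparison for a composite is the composite of the comparisons. -/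
theorem homologyComparison_comp (K : HomologicalComplex B c) (i : α) :
    RDer.homologyComparison Ψ₁ ((Ψ₂.mapHomologicalComplex c).obj K) i ≫
        Ψ₁.map (RDer.homologyComparison Ψ₂ K i) ≫ ε.app (K.homology i) =
      homologyMap ((NatTrans.mapHomologicalComplex ε c).app K) i ≫ RDer.homologyComparison Ψ K i := by
  have hc : RDer.cyclesComparison Ψ₁ ((Ψ₂.mapHomologicalComplex c).obj K) i ≫
      Ψ₁.map (RDer.cyclesComparison Ψ₂ K i) ≫ ε.app (K.cycles i) =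
      cyclesMap ((NatTrans.mapHomologicalComplex ε c).app K) i ≫ RDer.cyclesComparison Ψ K i := by
    rw [← cancel_mono (Ψ.map (K.iCycles i))]
    simp only [Category.assoc, RDer.cyclesComparison_i, cyclesMap_i]
    rw [← ε.naturality, Functor.comp_map, ← Functor.map_comp_assoc, RDer.cyclesComparison_i,
      RDer.cyclesComparison_i_assoc]
    rfl
  have hπ := ε.naturality (K.homologyπ i)
  rw [Functor.comp_map] at hπ
  rw [← cancel_epi (((Ψ₁.mapHomologicalComplex c).obj ((Ψ₂.mapHomologicalComplex c).obj K)).homologyπ i),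
    RDer.homologyπ_homologyComparison_assoc, ← Functor.map_comp_assoc, RDer.homologyπ_homologyComparison,
    Functor.map_comp_assoc, hπ]
  erw [homologyπ_naturality_assoc, RDer.homologyπ_homologyComparison]
  rw [reassoc_of% hc]

end Comparison

section Natural

variable {A : Type u₁} [Category.{v₁} A] [Abelian A] [HasInjectiveResolutions A]
  {A' : Type u₂} [Category.{v₂} A'] [Abelian A'] [HasInjectiveResolutions A']
  {C : Type u₃} [Category.{v₃} C] [Abelian C] {C' : Type u₄} [Category.{v₄} C'] [Abelian C']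
  (Φ : A' ⥤ A) [Φ.Additive] [Φ.PreservesInjectiveObjects] (Ψ : A ⥤ C) [Ψ.Additive]
  (Φ' : A' ⥤ C') [Φ'.Additive] (Ψ' : C' ⥤ C) [Ψ'.Additive] [PreservesFiniteLimits Ψ']
  (e : Φ ⋙ Ψ ≅ Φ' ⋙ Ψ')

theorem exists_res_map {F : A} {G : A'} (u : F ⟶ Φ.obj G) (I : InjectiveResolution F) (J : InjectiveResolution G) :
    ∃ a : I.cocomplex ⟶ (Φ.mapHomologicalComplex _).obj J.cocomplex,
      I.ι.f 0 ≫ a.f 0 = u ≫ (RDer.mapAug Φ J.ι).f 0 :=
  ⟨RDer.descToInjectives u I.cocomplex I.ι ((Φ.mapHomologicalComplex _).obj J.cocomplex) (RDer.mapAug Φ J.ι),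
    RDer.ι_descToInjectives_f_zero _ _ _ _ _⟩

/-- Naturality of the base change map of a square in the sheaf upstairs. -/
theorem bcG_natural {F : A} {G G' : A'} (u : F ⟶ Φ.obj G) (s : G ⟶ G') (q : ℕ) :
    bcG Φ Ψ Φ' Ψ' e (u ≫ Φ.map s) q =
      bcG Φ Ψ Φ' Ψ' e u q ≫ Ψ'.map ((Φ'.rightDerived q).map s) := by
  let I := injectiveResolution F
  let J := injectiveResolution G
  let J' := injectiveResolution G'
  obtain ⟨a, ha⟩ := exists_res_map Φ u I J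
  let k := InjectiveResolution.desc s J' J
  have hk : J.ι.f 0 ≫ k.f 0 = s ≫ J'.ι.f 0 := InjectiveResolution.desc_commutes_zero s J' J
  have ha' : I.ι.f 0 ≫ (a ≫ (Φ.mapHomologicalComplex _).map k).f 0 =
      (u ≫ Φ.map s) ≫ (RDer.mapAug Φ J'.ι).f 0 := by
    rw [HomologicalComplex.comp_f, reassoc_of% ha, Category.assoc, Functor.mapHomologicalComplex_map_f,
      mapAug_comm Φ J.ι J'.ι s (k.f 0) hk]
  rw [bcG_eq Φ Ψ Φ' Ψ' e u q I J a ha, bcG_eq Φ Ψ Φ' Ψ' e (u ≫ Φ.map s) q I J' _ ha']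
  have hn := InjectiveResolution.isoRightDerivedObj_inv_naturality s J J' k hk Φ' q
  simp only [Category.assoc]
  refine congrArg ((I.isoRightDerivedObj Ψ q).hom ≫ ·) ?_
  rw [Functor.map_comp, homologyMap_comp, Category.assoc]
  refine congrArg (homologyMap ((Ψ.mapHomologicalComplex _).map a) q ≫ ·) ?_
  have hs : homologyMap ((Ψ.mapHomologicalComplex _).map ((Φ.mapHomologicalComplex _).map k)) q ≫
      homologyMap (sqMap Φ Ψ Φ' Ψ' e J'.cocomplex) q =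
      homologyMap (sqMap Φ Ψ Φ' Ψ' e J.cocomplex) q ≫
        homologyMap ((Ψ'.mapHomologicalComplex _).map ((Φ'.mapHomologicalComplex _).map k)) q := by
    rw [← homologyMap_comp, ← homologyMap_comp]
    exact congrArg (homologyMap · q)
      ((NatTrans.mapHomologicalComplex e.hom (ComplexShape.up ℕ)).naturality k)
  rw [reassoc_of% hs]
  refine congrArg (homologyMap (sqMap Φ Ψ Φ' Ψ' e J.cocomplex) q ≫ ·) ?_
  rw [reassoc_of% (homologyComparison_naturality Ψ' ((Φ'.mapHomologicalComplex _).map k) q)]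
  refine congrArg (RDer.homologyComparison Ψ' _ q ≫ ·) ?_
  refine (Ψ'.map_comp _ _).symm.trans ?_
  refine Eq.trans ?_ (Ψ'.map_comp _ _)
  exact congrArg Ψ'.map hn.symm

end Natural

section Vertical

variable {A : Type u₁} [Category.{v₁} A] [Abelian A] [HasInjectiveResolutions A]
  {A₁ : Type u₂} [Category.{v₂} A₁] [Abelian A₁] [HasInjectiveResolutions A₁]
  {A₂ : Type u₃} [Category.{v₃} A₂] [Abelian A₂] [HasInjectiveResolutions A₂]
  {C : Type u₄} [Category.{v₄} C] [Abelian C] {C₁ : Type u₅} [Category.{v₅} C₁] [Abelian C₁]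
  {C₂ : Type u₆} [Category.{v₆} C₂] [Abelian C₂]
  (Φ₁ : A₁ ⥤ A) [Φ₁.Additive] [Φ₁.PreservesInjectiveObjects] (Ψ₁ : A ⥤ C) [Ψ₁.Additive]
  (Φ₁' : A₁ ⥤ C₁) [Φ₁'.Additive] (Ψ₁' : C₁ ⥤ C) [Ψ₁'.Additive] [PreservesFiniteLimits Ψ₁']
  (e₁ : Φ₁ ⋙ Ψ₁ ≅ Φ₁' ⋙ Ψ₁')
  (Φ₂ : A₂ ⥤ A₁) [Φ₂.Additive] [Φ₂.PreservesInjectiveObjects]
  (Φ₂' : A₂ ⥤ C₂) [Φ₂'.Additive] (Ψ₂' : C₂ ⥤ C₁) [Ψ₂'.Additive] [PreservesFiniteLimits Ψ₂']
  (e₂ : Φ₂ ⋙ Φ₁' ≅ Φ₂' ⋙ Ψ₂')
  (Φ : A₂ ⥤ A) [Φ.Additive] [Φ.PreservesInjectiveObjects]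
  (Ψ' : C₂ ⥤ C) [Ψ'.Additive] [PreservesFiniteLimits Ψ']
  (e : Φ ⋙ Ψ₁ ≅ Φ₂' ⋙ Ψ')
  (εΦ : Φ₂ ⋙ Φ₁ ⟶ Φ) (εΨ : Ψ₂' ⋙ Ψ₁' ⟶ Ψ')

/-- Two stacked squares: the base change map of the composite is the composite of the base change maps. -/
theorem bcG_vcomp (hcoh : ∀ L : A₂, Ψ₁.map (εΦ.app L) ≫ e.hom.app L =
      e₁.hom.app (Φ₂.obj L) ≫ Ψ₁'.map (e₂.hom.app L) ≫ εΨ.app (Φ₂'.obj L))
    {F : A} {G : A₁} {H : A₂} (u₁ : F ⟶ Φ₁.obj G) (u₂ : G ⟶ Φ₂.obj H) (q : ℕ) :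
    bcG Φ₁ Ψ₁ Φ₁' Ψ₁' e₁ u₁ q ≫ Ψ₁'.map (bcG Φ₂ Φ₁' Φ₂' Ψ₂' e₂ u₂ q) ≫ εΨ.app _ =
      bcG Φ Ψ₁ Φ₂' Ψ' e (u₁ ≫ Φ₁.map u₂ ≫ εΦ.app H) q := by
  let I := injectiveResolution F
  let J := injectiveResolution G
  let K := injectiveResolution H
  obtain ⟨a₁, ha₁⟩ := exists_res_map Φ₁ u₁ I J
  obtain ⟨a₂, ha₂⟩ := exists_res_map Φ₂ u₂ J K
  let t : (Φ₁.mapHomologicalComplex (ComplexShape.up ℕ)).obj ((Φ₂.mapHomologicalComplex _).obj K.cocomplex) ⟶
      (Φ.mapHomologicalComplex _).obj K.cocomplex :=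
    (NatTrans.mapHomologicalComplex εΦ (ComplexShape.up ℕ)).app K.cocomplex
  let a := a₁ ≫ (Φ₁.mapHomologicalComplex _).map a₂ ≫ t
  have ha : I.ι.f 0 ≫ a.f 0 = (u₁ ≫ Φ₁.map u₂ ≫ εΦ.app H) ≫ (RDer.mapAug Φ K.ι).f 0 := by
    have h1 := ha₁
    rw [mapAug_f_zero] at h1
    rw [mapAug_f_zero]
    simp only [a, HomologicalComplex.comp_f, Functor.mapHomologicalComplex_map_f, Category.assoc]
    erw [reassoc_of% h1]
    refine congrArg (u₁ ≫ ·) ?_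
    rw [← Functor.map_comp_assoc]
    have h2 := ha₂
    rw [mapAug_f_zero] at h2
    erw [h2]
    rw [Functor.map_comp_assoc]
    refine congrArg (Φ₁.map u₂ ≫ ·) ?_
    exact εΦ.naturality (K.ι.f 0)
  rw [bcG_eq Φ₁ Ψ₁ Φ₁' Ψ₁' e₁ u₁ q I J a₁ ha₁, bcG_eq Φ₂ Φ₁' Φ₂' Ψ₂' e₂ u₂ q J K a₂ ha₂,
    bcG_eq Φ Ψ₁ Φ₂' Ψ' e _ q I K a ha]
  simp only [Category.assoc, Functor.map_comp]
  refine congrArg ((I.isoRightDerivedObj Ψ₁ q).hom ≫ ·) ?_
  rw [← Functor.map_comp_assoc Ψ₁', Iso.inv_hom_id, CategoryTheory.Functor.map_id, Category.id_comp]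
  rw [← reassoc_of% (homologyComparison_naturality Ψ₁' ((Φ₁'.mapHomologicalComplex _).map a₂) q),
    ← reassoc_of% (homologyComparison_naturality Ψ₁' (sqMap Φ₂ Φ₁' Φ₂' Ψ₂' e₂ K.cocomplex) q)]
  have hε := εΨ.naturality (K.isoRightDerivedObj Φ₂' q).inv
  rw [Functor.comp_map] at hε
  erw [hε]
  erw [reassoc_of% (homologyComparison_comp Ψ₂' Ψ₁' Ψ' εΨ ((Φ₂'.mapHomologicalComplex _).obj K.cocomplex) q)]
  simp only [← Category.assoc]
  congr 2
  simp only [← homologyMap_comp]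
  refine congrArg (homologyMap · q) (HomologicalComplex.hom_ext _ _ fun n => ?_)
  have hn := e₁.hom.naturality (a₂.f n)
  simp only [Functor.comp_map] at hn
  simp only [a, t, HomologicalComplex.comp_f, Functor.mapHomologicalComplex_map_f,
    NatTrans.mapHomologicalComplex_app_f, Functor.map_comp, Category.assoc, sqMap]
  refine congrArg (Ψ₁.map (a₁.f n) ≫ ·) ?_
  erw [reassoc_of% hn.symm]
  refine congrArg (Ψ₁.map (Φ₁.map (a₂.f n)) ≫ ·) ?_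
  exact (hcoh (K.cocomplex.X n)).symm

end Vertical

end Groth.Agent.BCVertLib
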