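import Groth.Agent.BCVertLib.Horiz
import Groth.Agent.BCVertLib.EtaleBC
import Groth.Agent.S0101

/-!
# Base change maps and direct images in the source of the base
-/

set_option autoImplicit false
set_option backward.isDefEq.respectTransparency false
set_option backward.isDefEq.respectTransparency.types false
set_option linter.style.haveILetI false
set_option linter.unusedSectionVars false
set_option maxHeartbeats 1000000

universe v₁ v₂ v₃ u₁ u₂ u₃ u

open CategoryTheory CategoryTheory.Limits AlgebraicGeometry Opposite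
open Groth.Agent.EtLimLib Groth.Agent.GenBCLib

noncomputable section

namespace Groth.Agent.BCVertLib

section Edge

variable {A : Type u₁} [Category.{v₁} A] [Abelian A] [HasInjectiveResolutions A]
  {A' : Type u₂} [Category.{v₂} A'] [Abelian A'] [HasInjectiveResolutions A']
  {C : Type u₃} [Category.{v₃} C] [Abelian C]

/-- The edge map into the derived functors of a composite `Φ ⋙ Ψ ≅ Φ'` is an isomorphism if `Φ` is exact. -/
theorem isIso_bcG_exact (Φ : A' ⥤ A) [Φ.Additive] [Φ.PreservesInjectiveObjects] [Φ.PreservesHomology]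
    (Ψ : A ⥤ C) [Ψ.Additive] (Φ' : A' ⥤ C) [Φ'.Additive] (e : Φ ⋙ Ψ ≅ Φ' ⋙ 𝟭 C) (M : A') (q : ℕ) :
    IsIso (bcG Φ Ψ Φ' (𝟭 C) e (𝟙 (Φ.obj M)) q) := by
  let J := injectiveResolution M
  let I : InjectiveResolution (Φ.obj M) :=
    { cocomplex := (Φ.mapHomologicalComplex _).obj J.cocomplex
      injective := fun n => Φ.injective_obj (J.cocomplex.X n)
      ι := RDer.mapAug Φ J.ι }
  have ha : I.ι.f 0 ≫ (𝟙 I.cocomplex : I.cocomplex ⟶ I.cocomplex).f 0 = 𝟙 (Φ.obj M) ≫ (RDer.mapAug Φ J.ι).f 0 := by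
    rw [HomologicalComplex.id_f, Category.comp_id, Category.id_comp]
  rw [bcG_eq Φ Ψ Φ' (𝟭 C) e (𝟙 (Φ.obj M)) q I J (𝟙 I.cocomplex) ha]
  haveI : ∀ n, IsIso ((sqMap Φ Ψ Φ' (𝟭 C) e J.cocomplex).f n) := fun n =>
    inferInstanceAs (IsIso (e.hom.app (J.cocomplex.X n)))
  haveI : IsIso (sqMap Φ Ψ Φ' (𝟭 C) e J.cocomplex) := HomologicalComplex.Hom.isIso_of_components _
  haveI := isIso_homologyComparison (𝟭 C) ((Φ'.mapHomologicalComplex (ComplexShape.up ℕ)).obj J.cocomplex) q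
  haveI : IsIso (HomologicalComplex.homologyMap ((Ψ.mapHomologicalComplex _).map (𝟙 I.cocomplex)) q) :=
    inferInstance
  infer_instance

end Edge

variable {T S X Y T' Y' : Scheme.{u}} (g : T ⟶ S) (f : X ⟶ S) (h : Y ⟶ X) (e : Y ⟶ T) (w : e ≫ g = h ≫ f)
  (π : T' ⟶ T) (π' : Y' ⟶ Y) (e' : Y' ⟶ T') (w' : e' ≫ π = π' ≫ e)
  (w'' : e' ≫ π ≫ g = (π' ≫ h) ≫ f)

theorem sqNat_source_left (L : EtCoh.Ab Y') (hn : (π' ≫ e) ≫ g = (π' ≫ h) ≫ f) :
    (EtCoh.push g).map ((EtCoh.pushComp e π').hom.app L) ≫ (sqNat g f (π' ≫ h) (π' ≫ e) hn).hom.app L =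
      (sqNat g f h e w).hom.app ((EtCoh.push π').obj L) ≫ (EtCoh.push f).map ((EtCoh.pushComp h π').hom.app L) := by
  haveI : Mono (pushJoin f (π' ≫ h) ((π' ≫ h) ≫ f) rfl L) :=
    mono_of_mono_fac (pushJoin_pushSp f (π' ≫ h) ((π' ≫ h) ≫ f) rfl L)
  rw [← cancel_mono (pushJoin f (π' ≫ h) ((π' ≫ h) ≫ f) rfl L)]
  refine (Category.assoc _ _ _).trans (Eq.trans ?_ (Category.assoc _ _ _).symm)
  rw [pushComp_hom_eq, pushComp_hom_eq, sqNat_comp g f (π' ≫ h) (π' ≫ e) hn L,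
    pushJoin_assoc g e π' (h ≫ f) w (π' ≫ e) rfl ((π' ≫ h) ≫ f) hn (Category.assoc _ _ _).symm L,
    pushJoin_assoc f h π' (h ≫ f) rfl (π' ≫ h) rfl ((π' ≫ h) ≫ f) rfl (Category.assoc _ _ _).symm L,
    reassoc_of% (sqNat_comp g f h e w ((EtCoh.push π').obj L))]

theorem sqNat_source_right (L : EtCoh.Ab Y') (hn : (π' ≫ e) ≫ g = (π' ≫ h) ≫ f) :
    (EtCoh.push g).map ((EtCoh.pushComp π e').hom.app L ≫ (EtCoh.pushCongr w').hom.app L) ≫
        (sqNat g f (π' ≫ h) (π' ≫ e) hn).hom.app L =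
      (EtCoh.pushComp g π).hom.app ((EtCoh.push e').obj L) ≫
        (sqNat (π ≫ g) f (π' ≫ h) e' w'').hom.app L := by
  haveI : Mono (pushJoin f (π' ≫ h) ((π' ≫ h) ≫ f) rfl L) :=
    mono_of_mono_fac (pushJoin_pushSp f (π' ≫ h) ((π' ≫ h) ≫ f) rfl L)
  rw [← cancel_mono (pushJoin f (π' ≫ h) ((π' ≫ h) ≫ f) rfl L)]
  refine (Category.assoc _ _ _).trans (Eq.trans ?_ (Category.assoc _ _ _).symm)
  rw [pushComp_congr_eq π e' (π' ≫ e) w', pushComp_hom_eq, sqNat_comp g f (π' ≫ h) (π' ≫ e) hn L,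
    sqNat_comp (π ≫ g) f (π' ≫ h) e' w'' L]
  exact pushJoin_assoc g π e' (π ≫ g) rfl (π' ≫ e) w' ((π' ≫ h) ≫ f) hn w'' L

variable [PreservesFiniteLimits (EtCoh.pull e)] [PreservesFiniteLimits (EtCoh.pull e')]

/-- Base change in degree `q` for the sheaf `π_* M` against base change for `M` along the composite square. -/
theorem isIso_bcQ_push_source [PreservesFiniteColimits (EtCoh.push π)] [PreservesFiniteColimits (EtCoh.push π')]
    (M : EtCoh.Ab T') (q : ℕ) (hb : IsIso (EtCoh.baseChange0 π e π' e' w' M))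
    (hiso : IsIso (EtBC.bcQ (π ≫ g) f (π' ≫ h) e' w'' q M)) :
    IsIso (EtBC.bcQ g f h e w q ((EtCoh.push π).obj M)) := by
  haveI := hb
  haveI := hiso
  haveI : PreservesFiniteLimits (EtCoh.pull π) := Groth.Agent.S0101.result π
  haveI : PreservesFiniteLimits (EtCoh.pull π') := Groth.Agent.S0101.result π'
  haveI : PreservesFiniteLimits (EtCoh.pull (π' ≫ e)) := Groth.Agent.S0101.result _
  haveI : (EtCoh.push π).PreservesHomology := inferInstance
  haveI : (EtCoh.push π').PreservesHomology := inferInstance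
  let G' := (EtCoh.pull e).obj ((EtCoh.push π).obj M)
  let M' := (EtCoh.pull e').obj M
  let b : G' ⟶ (EtCoh.push π').obj M' := EtCoh.baseChange0 π e π' e' w' M
  let n := π' ≫ e
  have hn : n ≫ g = (π' ≫ h) ≫ f := by simp only [n, Category.assoc, w]
  let η : EtCoh.push π ⋙ EtCoh.push g ≅ EtCoh.push (π ≫ g) ⋙ 𝟭 _ :=
    EtCoh.pushComp g π ≪≫ (Functor.rightUnitor _).symm
  let η' : EtCoh.push π' ⋙ EtCoh.push h ≅ EtCoh.push (π' ≫ h) ⋙ 𝟭 _ :=
    EtCoh.pushComp h π' ≪≫ (Functor.rightUnitor _).symm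
  let E := sqNat g f (π' ≫ h) n hn
  have h₁ := bcG_vcomp (EtCoh.push e) (EtCoh.push g) (EtCoh.push h) (EtCoh.push f) (sqNat g f h e w)
    (EtCoh.push π') (EtCoh.push (π' ≫ h)) (𝟭 _) η' (EtCoh.push n) (EtCoh.push f) E
    (EtCoh.pushComp e π').hom (Functor.leftUnitor (EtCoh.push f)).hom (fun L => by
      simpa [η', E] using sqNat_source_left g f h e w π' L hn)
    ((EtCoh.pullPushAdj e).unit.app _) b q
  have h₂ := bcG_vcomp (EtCoh.push π) (EtCoh.push g) (EtCoh.push (π ≫ g)) (𝟭 _) η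
    (EtCoh.push e') (EtCoh.push (π' ≫ h)) (EtCoh.push f) (sqNat (π ≫ g) f (π' ≫ h) e' w'')
    (EtCoh.push n) (EtCoh.push f) E
    ((EtCoh.pushComp π e').hom ≫ (EtCoh.pushCongr w').hom) (Functor.rightUnitor (EtCoh.push f)).hom (fun L => by
      simpa [η, E] using sqNat_source_right g f h e π π' e' w' w'' L hn)
    (𝟙 ((EtCoh.push π).obj M)) ((EtCoh.pullPushAdj e').unit.app M) q
  have hu : (EtCoh.pullPushAdj e).unit.app ((EtCoh.push π).obj M) ≫ (EtCoh.push e).map b ≫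
      (EtCoh.pushComp e π').hom.app M' =
      𝟙 ((EtCoh.push π).obj M) ≫ (EtCoh.push π).map ((EtCoh.pullPushAdj e').unit.app M) ≫
        ((EtCoh.pushComp π e').hom ≫ (EtCoh.pushCongr w').hom).app M' := by
    have hb' : (EtCoh.pullPushAdj e).unit.app ((EtCoh.push π).obj M) ≫ (EtCoh.push e).map b =
        (EtCoh.push π).map ((EtCoh.pullPushAdj e').unit.app M) ≫ (sqNat π e π' e' w').hom.app M' := by
      refine ((EtCoh.pullPushAdj e).homEquiv_unit _ _ b).symm.trans ?_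
      simp [b, M', EtCoh.baseChange0, sqNat]
    rw [← Category.assoc, hb']
    simp [sqNat]
  rw [hu] at h₁
  have hk := h₁.trans h₂.symm
  haveI := isIso_bcG_exact (EtCoh.push π) (EtCoh.push g) (EtCoh.push (π ≫ g)) η M q
  haveI := isIso_bcG_exact (EtCoh.push π') (EtCoh.push h) (EtCoh.push (π' ≫ h)) η' M' q
  let p := bcG (EtCoh.push π') (EtCoh.push h) (EtCoh.push (π' ≫ h)) (𝟭 _) η' b q
  haveI : IsIso p := by
    have hp : p = (EtCoh.Rpush h q).map b ≫ bcG (EtCoh.push π') (EtCoh.push h) (EtCoh.push (π' ≫ h)) (𝟭 _) η' (𝟙 _) q := by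
      simp [p, bcG]
    rw [hp]
    haveI : IsIso b := hb
    infer_instance
  simp only [Functor.id_map, Functor.leftUnitor_hom_app, Functor.rightUnitor_hom_app, Category.comp_id,
    Functor.id_obj, Functor.comp_obj] at hk
  rw [← bcQAdj_eq, ← bcQAdj_eq] at hk
  have hk' := congrArg ((EtCoh.pullPushAdj f).homEquiv _ _).symm hk
  have hk'' := ((Adjunction.homEquiv_naturality_right_symm _ _ _).symm.trans hk').trans
    (Adjunction.homEquiv_naturality_left_symm _ _ _)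
  have hI : IsIso ((EtCoh.pull f).map (bcG (EtCoh.push π) (EtCoh.push g) (EtCoh.push (π ≫ g)) (𝟭 _) η
      (𝟙 ((EtCoh.push π).obj M)) q) ≫ EtBC.bcQ (π ≫ g) f (π' ≫ h) e' w'' q M) := inferInstance
  erw [← hk''] at hI
  exact @IsIso.of_isIso_comp_right _ _ _ _ _ _ p inferInstance hI

end Groth.Agent.BCVertLib
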