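import Groth.Agent.BCVertLib.Local
import Groth.Agent.DenseUnitLib.GeomFactor
import Groth.Agent.EtPtsLib.OverOpen
import Groth.Prelude.Def_EtBCD

/-!
# Degree zero base change for sheaves of sets: composition and étale locality
-/

set_option autoImplicit false
set_option backward.isDefEq.respectTransparency false
set_option backward.isDefEq.respectTransparency.types false
set_option linter.style.haveILetI false
set_option linter.unusedSectionVars false
set_option maxHeartbeats 1000000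

universe u

open CategoryTheory CategoryTheory.Limits AlgebraicGeometry Opposite
open Groth.Agent.EtLimLib Groth.Agent.FLCLib Groth.Agent.EtPtsLib

noncomputable section

namespace Groth.Agent.BCVertLib

/-- `t₁_* t₂_* → t₃_*` for sheaves of sets. -/
def pushJoinSh {A B C : Scheme.{u}} (t₁ : B ⟶ A) (t₂ : C ⟶ B) (t₃ : C ⟶ A) (w : t₂ ≫ t₁ = t₃) (G : EtDesc.Sh C) :
    (EtDesc.pushSh t₁).obj ((EtDesc.pushSh t₂).obj G) ⟶ (EtDesc.pushSh t₃).obj G :=
  ObjectProperty.homMk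
    { app := fun W => G.obj.map (bcSpInv t₁ t₂ t₃ w W.unop).op
      naturality := fun W W' g => by
        show G.obj.map ((EtCoh.bc t₂).map ((EtCoh.bc t₁).map g.unop)).op ≫ G.obj.map (bcSpInv t₁ t₂ t₃ w W'.unop).op =
          G.obj.map (bcSpInv t₁ t₂ t₃ w W.unop).op ≫ G.obj.map ((EtCoh.bc t₃).map g.unop).op
        rw [← Functor.map_comp, ← Functor.map_comp, ← op_comp, ← op_comp, bcSpInv_naturality] }

instance {A B C : Scheme.{u}} (t₁ : B ⟶ A) (t₂ : C ⟶ B) (t₃ : C ⟶ A) (w : t₂ ≫ t₁ = t₃) (G : EtDesc.Sh C) :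
    IsIso (pushJoinSh t₁ t₂ t₃ w G) := by
  haveI : ∀ W, IsIso ((pushJoinSh t₁ t₂ t₃ w G).hom.app W) := fun W => by
    haveI : IsIso (bcSpInv t₁ t₂ t₃ w W.unop) :=
      ⟨bcSp t₁ t₂ t₃ w W.unop, bcSpInv_bcSp _ _ _ _ _, bcSp_bcSpInv _ _ _ _ _⟩
    exact inferInstanceAs (IsIso (G.obj.map (bcSpInv t₁ t₂ t₃ w W.unop).op))
  haveI : IsIso (pushJoinSh t₁ t₂ t₃ w G).hom := NatIso.isIso_of_isIso_app _
  haveI : IsIso ((sheafToPresheaf _ _).map (pushJoinSh t₁ t₂ t₃ w G)) := ‹IsIso (pushJoinSh t₁ t₂ t₃ w G).hom›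
  exact isIso_of_fully_faithful (sheafToPresheaf _ _) _

theorem pushCompSh_hom_eq {A B C : Scheme.{u}} (g : B ⟶ A) (f : C ⟶ B) (G : EtDesc.Sh C) :
    (EtDesc.pushCompSh g f).hom.app G = pushJoinSh g f (f ≫ g) rfl G := by
  refine ObjectProperty.hom_ext _ (NatTrans.ext (funext fun W => ?_))
  obtain ⟨W⟩ := W
  refine Eq.trans (b := G.obj.map ((MorphismProperty.Over.pullbackComp (P := EtCoh.etaleMP) (Q := ⊤) f g).hom.app W).op) rfl ?_
  show _ = G.obj.map (bcSpInv g f (f ≫ g) rfl W).op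
  congr 2
  refine bc_ext _ (pullback.hom_ext ?_ ?_)
  · refine Eq.trans ?_ ((congrArg (· ≫ pullback.fst W.hom g) (bcSpInv_fst g f (f ≫ g) rfl W)).trans
      (pullback.lift_fst _ _ _)).symm
    simp [EtCoh.bc, MorphismProperty.Over.pullbackComp]
    refine (Category.id_comp _).trans ?_
    exact pullbackLeftPullbackSndIso_inv_fst W.hom g f
  · refine Eq.trans ?_ ((congrArg (· ≫ pullback.snd W.hom g) (bcSpInv_fst g f (f ≫ g) rfl W)).trans
      (pullback.lift_snd _ _ _)).symm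
    simp [EtCoh.bc, MorphismProperty.Over.pullbackComp]
    refine (Category.id_comp _).trans ?_
    exact pullbackLeftPullbackSndIso_inv_fst_snd W.hom g f

theorem pushCongrSh_rfl {X Y : Scheme.{u}} (q : X ⟶ Y) (G : EtDesc.Sh X) :
    (EtBC.pushCongrSh (rfl : q = q)).hom.app G = 𝟙 _ := by
  refine ObjectProperty.hom_ext _ (NatTrans.ext (funext fun W => ?_))
  obtain ⟨W⟩ := W
  refine Eq.trans (b := G.obj.map
    ((MorphismProperty.Over.pullbackCongr (P := EtCoh.etaleMP) (Q := ⊤) (rfl : q = q)).inv.app W).op) rfl ?_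
  rw [show (MorphismProperty.Over.pullbackCongr (P := EtCoh.etaleMP) (Q := ⊤) (rfl : q = q)).inv.app W = 𝟙 _ from
    bc_ext q (by simp [MorphismProperty.Over.pullbackCongr, EtCoh.bc]; exact Category.id_comp _), op_id, CategoryTheory.Functor.map_id]
  rfl

theorem pushCompSh_congr_eq {A B C : Scheme.{u}} (g : B ⟶ A) (f : C ⟶ B) (h : C ⟶ A) (w : f ≫ g = h)
    (G : EtDesc.Sh C) :
    (EtDesc.pushCompSh g f).hom.app G ≫ (EtBC.pushCongrSh w).hom.app G = pushJoinSh g f h w G := by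
  subst w
  rw [pushCompSh_hom_eq, pushCongrSh_rfl]
  exact Category.comp_id _

/-- The joining maps of direct images of sheaves of sets are associative. -/
theorem pushJoinSh_assoc {A B C D : Scheme.{u}} (a : B ⟶ A) (b : C ⟶ B) (c : D ⟶ C) (n₁ : C ⟶ A) (w₁ : b ≫ a = n₁)
    (n₂ : D ⟶ B) (w₂ : c ≫ b = n₂) (m : D ⟶ A) (w₃ : n₂ ≫ a = m) (w₄ : c ≫ n₁ = m) (L : EtDesc.Sh D) :
    (EtDesc.pushSh a).map (pushJoinSh b c n₂ w₂ L) ≫ pushJoinSh a n₂ m w₃ L =
      pushJoinSh a b n₁ w₁ ((EtDesc.pushSh c).obj L) ≫ pushJoinSh n₁ c m w₄ L := by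
  refine ObjectProperty.hom_ext _ (NatTrans.ext (funext fun W => ?_))
  obtain ⟨W⟩ := W
  show L.obj.map (bcSpInv b c n₂ w₂ ((EtCoh.bc a).obj W)).op ≫ L.obj.map (bcSpInv a n₂ m w₃ W).op =
    L.obj.map ((EtCoh.bc c).map (bcSpInv a b n₁ w₁ W)).op ≫ L.obj.map (bcSpInv n₁ c m w₄ W).op
  rw [← Functor.map_comp, ← Functor.map_comp, ← op_comp, ← op_comp, bcSpInv_assoc a b c n₁ w₁ n₂ w₂ m w₃ w₄ W]

/-- The isomorphism of functors attached to a square. -/
abbrev sqNatSh {X S X' S' : Scheme.{u}} (f : X ⟶ S) (g : S' ⟶ S) (f' : X' ⟶ S') (g' : X' ⟶ X)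
    (w : g' ≫ f = f' ≫ g) : EtDesc.pushSh g' ⋙ EtDesc.pushSh f ≅ EtDesc.pushSh f' ⋙ EtDesc.pushSh g :=
  EtDesc.pushCompSh f g' ≪≫ EtBC.pushCongrSh w ≪≫ (EtDesc.pushCompSh g f').symm

theorem sqNatSh_comp {X S X' S' : Scheme.{u}} (f : X ⟶ S) (g : S' ⟶ S) (f' : X' ⟶ S') (g' : X' ⟶ X)
    (w : g' ≫ f = f' ≫ g) (L : EtDesc.Sh X') :
    (sqNatSh f g f' g' w).hom.app L ≫ pushJoinSh g f' (f' ≫ g) rfl L = pushJoinSh f g' (f' ≫ g) w L := by
  rw [← pushCompSh_congr_eq f g' (f' ≫ g) w, ← pushCompSh_hom_eq]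
  simp [sqNatSh]

variable {X S Y T W Z : Scheme.{u}} (f : X ⟶ S) (g : T ⟶ S) (h : Y ⟶ X) (e : Y ⟶ T) (w₁ : e ≫ g = h ≫ f)
  (i : W ⟶ X) (j : Z ⟶ W) (k : Z ⟶ Y) (w₂ : k ≫ h = j ≫ i) (w : (k ≫ e) ≫ g = j ≫ i ≫ f)

theorem sqNatSh_vcomp (L : EtDesc.Sh Z) :
    (EtDesc.pushSh g).map ((EtDesc.pushCompSh e k).hom.app L) ≫ (sqNatSh g (i ≫ f) j (k ≫ e) w).hom.app L =
      (sqNatSh g f h e w₁).hom.app ((EtDesc.pushSh k).obj L) ≫
        (EtDesc.pushSh f).map ((sqNatSh h i j k w₂).hom.app L) ≫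
        (EtDesc.pushCompSh f i).hom.app ((EtDesc.pushSh j).obj L) := by
  rw [← cancel_mono (pushJoinSh (i ≫ f) j (j ≫ i ≫ f) rfl L)]
  simp only [Category.assoc]
  rw [pushCompSh_hom_eq, pushCompSh_hom_eq, sqNatSh_comp g (i ≫ f) j (k ≫ e) w L]
  rw [← pushJoinSh_assoc f i j (i ≫ f) rfl (j ≫ i) rfl (j ≫ i ≫ f) (Category.assoc _ _ _) rfl L,
    ← Functor.map_comp_assoc, sqNatSh_comp h i j k w₂ L,
    pushJoinSh_assoc f h k (h ≫ f) rfl (j ≫ i) w₂ (j ≫ i ≫ f) (Category.assoc _ _ _)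
      (by rw [← Category.assoc, w₂, Category.assoc]) L,
    reassoc_of% (sqNatSh_comp g f h e w₁ ((EtDesc.pushSh k).obj L))]
  exact pushJoinSh_assoc g e k (h ≫ f) w₁ (k ≫ e) rfl (j ≫ i ≫ f) w _ L

/-- The degree zero base change of a rectangle is the composite of those of the two squares. -/
theorem exists_baseChange0Sh_vcomp (F : EtDesc.Sh T) :
    ∃ (τ : (EtDesc.pullSh (i ≫ f)).obj ((EtDesc.pushSh g).obj F) ≅
        (EtDesc.pullSh i).obj ((EtDesc.pullSh f).obj ((EtDesc.pushSh g).obj F)))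
      (σ : (EtDesc.pullSh (k ≫ e)).obj F ≅ (EtDesc.pullSh k).obj ((EtDesc.pullSh e).obj F)),
      EtBC.baseChange0Sh g (i ≫ f) j (k ≫ e) w F ≫ (EtDesc.pushSh j).map σ.hom =
        τ.hom ≫ (EtDesc.pullSh i).map (EtBC.baseChange0Sh g f h e w₁ F) ≫
          EtBC.baseChange0Sh h i j k w₂ ((EtDesc.pullSh e).obj F) := by
  let G := (EtDesc.pullSh e).obj F
  let adjL := ((EtDesc.adjSh e).comp (EtDesc.adjSh k)).ofNatIsoRight (EtDesc.pushCompSh e k)
  let σ : (EtDesc.pullSh (k ≫ e)).obj F ≅ (EtDesc.pullSh k).obj G :=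
    ((EtDesc.adjSh (k ≫ e)).leftAdjointUniq adjL).app F
  have hu : (EtDesc.adjSh (k ≫ e)).unit.app F ≫ (EtDesc.pushSh (k ≫ e)).map σ.hom =
      (EtDesc.adjSh e).unit.app F ≫ (EtDesc.pushSh e).map ((EtDesc.adjSh k).unit.app G) ≫
        (EtDesc.pushCompSh e k).hom.app _ := by
    refine (Adjunction.unit_leftAdjointUniq_hom_app (EtDesc.adjSh (k ≫ e)) adjL F).trans ?_
    simp only [adjL, Adjunction.ofNatIsoRight, Adjunction.comp]
    simp [G]
  let adjP := ((EtDesc.adjSh f).comp (EtDesc.adjSh i)).ofNatIsoRight (EtDesc.pushCompSh f i)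
  let τ := ((EtDesc.adjSh (i ≫ f)).leftAdjointUniq adjP).app ((EtDesc.pushSh g).obj F)
  let p : (EtDesc.pullSh i).obj ((EtDesc.pullSh f).obj ((EtDesc.pushSh g).obj F)) ⟶
      (EtDesc.pushSh j).obj ((EtDesc.pullSh k).obj G) :=
    (EtDesc.pullSh i).map (EtBC.baseChange0Sh g f h e w₁ F) ≫ EtBC.baseChange0Sh h i j k w₂ G
  refine ⟨τ, σ, ?_⟩
  apply ((EtDesc.adjSh (i ≫ f)).homEquiv _ _).injective
  refine ((Adjunction.homEquiv_naturality_right _ _ _).trans ?_).trans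
    (homEquiv_leftAdjointUniq_comp (EtDesc.adjSh (i ≫ f)) adjP p).symm
  refine Eq.trans ?_ (Adjunction.homEquiv_ofNatIsoRight_apply _ _ _).symm
  rw [Adjunction.comp_homEquiv]
  show _ = (EtDesc.adjSh f).homEquiv _ _ ((EtDesc.adjSh i).homEquiv _ _ p) ≫ _
  simp only [p]
  rw [Adjunction.homEquiv_naturality_left, EtBC.baseChange0Sh, EtBC.baseChange0Sh, EtBC.baseChange0Sh,
    Equiv.apply_symm_apply, Equiv.apply_symm_apply, Adjunction.homEquiv_naturality_right, Equiv.apply_symm_apply]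
  show ((EtDesc.pushSh g).map ((EtDesc.adjSh (k ≫ e)).unit.app F) ≫
      (sqNatSh g (i ≫ f) j (k ≫ e) w).hom.app _) ≫ (EtDesc.pushSh (i ≫ f)).map ((EtDesc.pushSh j).map σ.hom) =
    (((EtDesc.pushSh g).map ((EtDesc.adjSh e).unit.app F) ≫ (sqNatSh g f h e w₁).hom.app G) ≫
      (EtDesc.pushSh f).map ((EtDesc.pushSh h).map ((EtDesc.adjSh k).unit.app G) ≫
        (sqNatSh h i j k w₂).hom.app _)) ≫ _
  have n1 := (sqNatSh g (i ≫ f) j (k ≫ e) w).hom.naturality σ.hom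
  have n2 := (sqNatSh g f h e w₁).hom.naturality ((EtDesc.adjSh k).unit.app G)
  simp only [Functor.comp_map] at n1 n2
  simp only [Category.assoc, Functor.map_comp]
  erw [← n1, ← reassoc_of% n2, ← Functor.map_comp_assoc]
  erw [hu]
  simp only [Functor.map_comp, Category.assoc]
  refine congrArg (fun m => _ ≫ _ ≫ m) ?_
  exact sqNatSh_vcomp f g h e w₁ i j k w₂ w _

theorem geometricallyConnected_id (X : Scheme.{u}) : GeometricallyConnected (𝟙 X) := by
  refine ⟨fun K _ y Z fst snd hp => ?_⟩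
  haveI : IsIso snd := MorphismProperty.of_isPullback (P := MorphismProperty.isomorphisms Scheme.{u}) hp
    (inferInstanceAs (IsIso (𝟙 X)))
  exact (Scheme.Hom.homeomorph snd).symm.surjective.connectedSpace (Scheme.Hom.homeomorph snd).symm.continuous

theorem isIso_baseChange0Sh_congr {X S Y T : Scheme.{u}} (g : T ⟶ S) {f f' : X ⟶ S} (hf : f = f') (h : Y ⟶ X)
    {e e' : Y ⟶ T} (he : e = e') (w : e ≫ g = h ≫ f) (w' : e' ≫ g = h ≫ f') (F : EtDesc.Sh T)
    (hi : IsIso (EtBC.baseChange0Sh g f h e w F)) : IsIso (EtBC.baseChange0Sh g f' h e' w' F) := by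
  subst hf he
  exact hi

/-- Degree zero base change of sheaves of sets along an étale morphism. -/
theorem isIso_baseChange0Sh_etale {X S Y T : Scheme.{u}} (f : X ⟶ S) [Etale f] (g : T ⟶ S) (h : Y ⟶ X)
    (e : Y ⟶ T) (c : IsPullback e h g f) (F : EtDesc.Sh T) : IsIso (EtBC.baseChange0Sh g f h e c.w F) := by
  refine DenseUnitLib.isIso_baseChange f g h e c F fun U => ⟨PUnit, fun _ => U, fun _ => 𝟙 U,
    fun y => ⟨PUnit.unit, y, rfl⟩, fun _ => ?_⟩
  haveI : Etale U.hom := U.prop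
  exact ⟨MorphismProperty.Over.mk ⊤ (U.hom ≫ f) inferInstance, 𝟙 _, Category.id_comp _, inferInstance, geometricallyConnected_id _⟩

/-- Degree zero base change may be checked on an étale covering, along étale charts of the base. -/
theorem isIso_baseChange0Sh_of_local {X S Y T : Scheme.{u}} (f : X ⟶ S) (g : T ⟶ S) (h : Y ⟶ X) (e : Y ⟶ T)
    (c : IsPullback e h g f) (F : EtDesc.Sh T)
    {ι : Type u} (U : ι → X.Etale) (hU : EtCoh.Covers U) (V : ι → S.Etale)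
    (a : ∀ i, (U i).left ⟶ (V i).left) (ha : ∀ i, a i ≫ (V i).hom = (U i).hom ≫ f)
    (Ti Yi : ι → Scheme.{u}) (gi : ∀ i, Ti i ⟶ (V i).left) (ti : ∀ i, Ti i ⟶ T)
    (cT : ∀ i, IsPullback (ti i) (gi i) g (V i).hom)
    (hi : ∀ i, Yi i ⟶ (U i).left) (ei : ∀ i, Yi i ⟶ Ti i) (cY : ∀ i, IsPullback (ei i) (hi i) (gi i) (a i))
    (hloc : ∀ i, IsIso (EtBC.baseChange0Sh (gi i) (a i) (hi i) (ei i) (cY i).w ((EtDesc.pullSh (ti i)).obj F))) :
    IsIso (EtBC.baseChange0Sh g f h e c.w F) := by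
  refine EtPtsLib.isIso_of_stalk_sh _ fun Ω _ _ ξ => ?_
  obtain ⟨i, y, hy⟩ := hU (ξ default)
  obtain ⟨l, -⟩ := Scheme.pointSmallEtaleFiberObjToPreimage_surjective ξ (s₀ := ξ default) rfl (U i) ⟨y, hy⟩
  haveI : Etale (V i).hom := (V i).prop
  haveI : Etale (U i).hom := (U i).prop
  have houter : IsPullback (ei i ≫ ti i) (hi i) g (a i ≫ (V i).hom) := (cY i).paste_horiz (cT i)
  let k : Yi i ⟶ Y := c.lift (ei i ≫ ti i) (hi i ≫ (U i).hom) (by rw [houter.w, Category.assoc, ha i])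
  have hke : k ≫ e = ei i ≫ ti i := c.lift_fst _ _ _
  have hkh : k ≫ h = hi i ≫ (U i).hom := c.lift_snd _ _ _
  have hk : IsPullback k (hi i) h (U i).hom := by
    refine IsPullback.of_right (t := c) ?_ hkh
    rw [hke, ← ha i]
    exact houter
  haveI := isIso_baseChange0Sh_etale (U i).hom h (hi i) k hk ((EtDesc.pullSh e).obj F)
  haveI hA : IsIso (EtBC.baseChange0Sh g (a i ≫ (V i).hom) (hi i) (ei i ≫ ti i) houter.w F) := by
    obtain ⟨τ, σ, he⟩ := exists_baseChange0Sh_vcomp (V i).hom g (gi i) (ti i) (cT i).w (a i) (hi i) (ei i)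
      (cY i).w houter.w F
    haveI := isIso_baseChange0Sh_etale (V i).hom g (gi i) (ti i) (cT i) F
    haveI := hloc i
    haveI : IsIso (EtBC.baseChange0Sh g (a i ≫ (V i).hom) (hi i) (ei i ≫ ti i) houter.w F ≫
        (EtDesc.pushSh (hi i)).map σ.hom) := by
      rw [he]
      infer_instance
    exact IsIso.of_isIso_comp_right _ ((EtDesc.pushSh (hi i)).map σ.hom)
  have w12 : (k ≫ e) ≫ g = hi i ≫ (U i).hom ≫ f := by rw [hke, houter.w, ha i]
  haveI := isIso_baseChange0Sh_congr g (ha i) (hi i) hke.symm houter.w w12 F hA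
  obtain ⟨τ, σ, he⟩ := exists_baseChange0Sh_vcomp f g h e c.w (U i).hom (hi i) k hk.w w12 F
  haveI : IsIso ((EtDesc.pullSh (U i).hom).map (EtBC.baseChange0Sh g f h e c.w F)) := by
    haveI : IsIso (τ.hom ≫ (EtDesc.pullSh (U i).hom).map (EtBC.baseChange0Sh g f h e c.w F) ≫
        EtBC.baseChange0Sh h (U i).hom (hi i) k hk.w ((EtDesc.pullSh e).obj F)) := by
      exact (congrArg (fun m => IsIso m) he).mp inferInstance
    haveI := IsIso.of_isIso_comp_left τ.hom ((EtDesc.pullSh (U i).hom).map (EtBC.baseChange0Sh g f h e c.w F) ≫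
      EtBC.baseChange0Sh h (U i).hom (hi i) k hk.w ((EtDesc.pullSh e).obj F))
    exact IsIso.of_isIso_comp_right _ (EtBC.baseChange0Sh h (U i).hom (hi i) k hk.w ((EtDesc.pullSh e).obj F))
  let ζ := liftHom ξ l
  have hst : IsIso ((Scheme.pointSmallEtale (ζ ≫ (U i).hom)).sheafFiber.map (EtBC.baseChange0Sh g f h e c.w F)) :=
    (NatIso.isIso_map_iff (EtPtsLib.pullStalkIso (U i).hom ζ (Type (u + 1))) _).1
      (inferInstanceAs (IsIso ((Scheme.pointSmallEtale ζ).sheafFiber.map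
        ((EtDesc.pullSh (U i).hom).map (EtBC.baseChange0Sh g f h e c.w F)))))
  rw [show ζ ≫ (U i).hom = ξ from liftHom_comp ξ l] at hst
  exact (isIso_iff_bijective _).1 hst

end Groth.Agent.BCVertLib
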